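import Groth.Agent.RefCh22.K0Filt
import Groth.Agent.RefHullLib.TensorGen
import Groth.Agent.RefHullLib.Divisor
import Groth.Agent.RefHullLib.Reflexive
import Groth.Agent.RefHullLib.ClassLaw

/-!
# `[ℒ₁ ⊗ ℒ₂] + [O] ≡ [ℒ₁] + [ℒ₂]` in codimension two
-/

set_option autoImplicit false
set_option linter.style.haveILetI false
set_option linter.unusedSectionVars false
set_option backward.isDefEq.respectTransparency.types false
universe u

open CategoryTheory CategoryTheory.Limits AlgebraicGeometry Groth.Agent.Coherent Groth.Agent.ModStalk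
open scoped TensorProduct MonoidalCategory
open scoped ZeroObject

namespace Groth.Agent.RefCh22

open CycLib28.K0

variable {X : Scheme.{u}}

local notation "St" => DerSch.stalkFunctor X

theorem twistStalkIso_of_gen {L : X.Modules} (x : X) (g : L.presheaf.stalk x)
    (hg : Function.Bijective fun r : X.presheaf.stalk x => r • g) :
    Nonempty (twist L ⋙ St x ≅ St x) := by
  refine ⟨NatIso.ofComponents (fun M => (rho x g hg M).toModuleIso) fun {M N} φ => ?_⟩
  refine ModuleCat.hom_ext (LinearMap.ext fun v => ?_)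
  show rho x g hg N ((St x).map ((DCoh.tensorBi.map φ).app L) v) = (St x).map φ (rho x g hg M v)
  rw [KoszTw.tensorBi_map_app]
  exact (rho_apply x g hg N _).trans ((congrArg (fun w => TensorProduct.rid _ _
    (TensorProduct.congr (LinearEquiv.refl _ ((St x).obj N)) (genEquiv x g hg).symm w))
      (VarietyLib.stalk_tensorMap_id φ L x v)).trans
        (rid_congr_rTensor (genEquiv x g hg) ((St x).map φ).hom ((stalkTensorIso x M L).hom v)))

theorem subsingleton_twist_stalk (L M : X.Modules) (x : X) [Subsingleton ((St x).obj M)] :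
    Subsingleton ((St x).obj ((twist L).obj M)) :=
  (stalkTensorIso x M L).toLinearEquiv.toEquiv.subsingleton_congr.2
    (inferInstanceAs (Subsingleton (TensorProduct (X.presheaf.stalk x) ((St x).obj M) ((St x).obj L))))

/-- free of rank one at the points of dimension `> b` -/
def GenAbove (δ : X → ℤ) (b : ℤ) (L : X.Modules) : Prop :=
  ∀ x, b < δ x → ∃ g : L.presheaf.stalk x, Function.Bijective fun r : X.presheaf.stalk x => r • g

variable [IsLocallyNoetherian X] {δ : X → ℤ} {a b : ℤ}

local notation "cls" => Cyc.toK0CohQuot δ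

/-- additivity for sequences exact at the points of dimension `> b` -/
theorem cls_ses_above (S : ShortComplex X.Modules) (h₁ : Cyc.CohLe δ a S.X₁) (h₂ : Cyc.CohLe δ a S.X₂)
    (h₃ : Cyc.CohLe δ a S.X₃) (hS : ∀ x, b < δ x → (S.map (St x)).ShortExact) :
    cls a b S.X₂ = cls a b S.X₁ + cls a b S.X₃ := by
  have := h₂.1.1
  have := h₃.1.1
  let φ := S.g
  let ι := Abelian.image.ι φ
  let π := Abelian.factorThruImage φ
  have hI : Coh.IsQCoh (Abelian.image φ) := isQCoh_image φ
  have hIm : Cyc.CohLe δ a (Abelian.image φ) :=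
    cohLe_of_support (isCoh_of_mono ι h₃.1 hI) (support_subset_of_mono ι) fun _ => (CohLe.support_le h₃)
  have hker : Cyc.CohLe δ a (kernel φ) :=
    cohLe_of_support (isCoh_kernel φ h₂.1 h₃.1.1) (support_subset_of_mono (kernel.ι φ)) fun _ => (CohLe.support_le h₂)
  have w₁ : kernel.ι φ ≫ π = 0 := by
    rw [← cancel_mono ι, Category.assoc, Abelian.image.fac, kernel.condition, zero_comp]
  have hS₁ : (ShortComplex.mk (kernel.ι φ) π w₁).ShortExact :=
    { mono_f := inferInstanceAs (Mono (kernel.ι φ))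
      epi_g := inferInstanceAs (Epi (Abelian.factorThruImage φ))
      exact := ShortComplex.exact_of_f_is_kernel _
        (isKernelOfComp (f := π) ι φ (kernelIsKernel φ) w₁ (Abelian.image.fac φ)) }
  rw [cls_ses hS₁ hker h₂ hIm]
  congr 1
  · refine (cls_eq_of_bijective (kernel.lift φ S.f S.zero) h₁ hker fun x hx => ⟨fun p q hpq => ?_, fun v => ?_⟩).symm
    · refine (ModuleCat.mono_iff_injective _).1 (hS x hx).mono_f ?_
      show (St x).map S.f p = (St x).map S.f q
      rw [← kernel.lift_ι φ S.f S.zero, Functor.map_comp]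
      exact congrArg ((St x).map (kernel.ι φ)) hpq
    · obtain ⟨u, hu⟩ := (hS x hx).exact.moduleCat_range_eq_ker.ge
        (show (St x).map (kernel.ι φ) v ∈ LinearMap.ker ((St x).map S.g).hom by
          show (St x).map φ ((St x).map (kernel.ι φ) v) = 0
          rw [← ConcreteCategory.comp_apply, ← Functor.map_comp, kernel.condition, Functor.map_zero]
          rfl)
      refine ⟨u, (ModuleCat.mono_iff_injective ((St x).map (kernel.ι φ))).1 inferInstance ?_⟩
      rw [← ConcreteCategory.comp_apply, ← Functor.map_comp, kernel.lift_ι]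
      exact hu
  · refine cls_eq_of_bijective ι hIm h₃ fun x hx => ⟨(ModuleCat.mono_iff_injective _).1 inferInstance, fun w => ?_⟩
    obtain ⟨v, hv⟩ := (ModuleCat.epi_iff_surjective _).1 (hS x hx).epi_g w
    refine ⟨(St x).map π v, ?_⟩
    rw [← ConcreteCategory.comp_apply, ← Functor.map_comp, Abelian.image.fac]
    exact hv

variable [IsIntegral X]

theorem twist_shift (hδ : Cyc.IsDimFun X δ) (hη : δ (genericPoint X) = a) {L : X.Modules} (hL : Coh.IsCoh L)
    (hgen : GenAbove δ (a - 2) L) {F G : X.Modules} (hF : Coh.IsCoh F) (hG : Coh.IsCoh G)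
    (h : cl δ a F - cl δ a G ∈ Fil δ a (a - 1)) :
    cls a (a - 2) (CohB1.tensorMod F L) - cls a (a - 2) F =
      cls a (a - 2) (CohB1.tensorMod G L) - cls a (a - 2) G := by
  have htw : ∀ M : X.Modules, Coh.IsCoh M → Cyc.CohLe δ a ((twist L).obj M) := fun M hM =>
    cohLe_top hδ hη (RefHullLib.isCoh_tensorMod hM hL)
  let D : K δ a →+ Cyc.K0CohQuot δ a (a - 2) :=
    QuotientAddGroup.lift _ (FreeAbelianGroup.lift fun M => cls a (a - 2) ((twist L).obj M.1) - cls a (a - 2) M.1) (by
      refine (AddSubgroup.closure_le _).2 ?_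
      rintro x ⟨S, h₁, h₂, h₃, hS, rfl⟩
      have w : (twist L).map S.f ≫ (twist L).map S.g = 0 := by
        rw [← Functor.map_comp, S.zero, Functor.map_zero]
      have key : ∀ y, a - 2 < δ y →
          ((ShortComplex.mk ((twist L).map S.f) ((twist L).map S.g) w).map (St y)).ShortExact := fun y hy => by
        obtain ⟨g, hg⟩ := hgen y hy
        obtain ⟨e⟩ := twistStalkIso_of_gen y g hg
        refine ShortComplex.shortExact_of_iso ?_ (hS.map_of_exact (St y))
        exact ShortComplex.isoMk (e.app _).symm (e.app _).symm (e.app _).symm (e.inv.naturality S.f).symm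
          (e.inv.naturality S.g).symm
      rw [SetLike.mem_coe, AddMonoidHom.mem_ker, map_sub, map_sub, FreeAbelianGroup.lift_apply_of,
        FreeAbelianGroup.lift_apply_of, FreeAbelianGroup.lift_apply_of, cls_ses hS h₁ h₂ h₃,
        show cls a (a - 2) ((twist L).obj S.X₂) = _ from cls_ses_above
          (ShortComplex.mk ((twist L).map S.f) ((twist L).map S.g) w) (htw _ h₁.1) (htw _ h₂.1) (htw _ h₃.1) key]
      abel)
  have hD : ∀ {M : X.Modules}, Coh.IsCoh M →
      D (cl δ a M) = cls a (a - 2) ((twist L).obj M) - cls a (a - 2) M := fun {M} hM => by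
    rw [cl_def (cohLe_top hδ hη hM)]
    exact FreeAbelianGroup.lift_apply_of (fun M : Subtype (Cyc.CohLe δ a) =>
      cls a (a - 2) ((twist L).obj M.1) - cls a (a - 2) M.1) ⟨M, cohLe_top hδ hη hM⟩
  have hD0 : Fil δ a (a - 1) ≤ D.ker := by
    refine (AddSubgroup.closure_le _).2 ?_
    rintro _ ⟨E, hE, rfl⟩
    rw [SetLike.mem_coe, AddMonoidHom.mem_ker]
    refine (hD hE.1).trans (sub_eq_zero.2 ?_)
    have hE' : Cyc.CohLe δ (a - 1) ((twist L).obj E) := ⟨RefHullLib.isCoh_tensorMod hE.1 hL, fun x hx => by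
      by_contra hlt
      haveI : Subsingleton ((St x).obj E) := CohLe.subsingleton hE (not_le.1 hlt)
      exact not_subsingleton_iff_nontrivial.2 hx (subsingleton_twist_stalk L E x)⟩
    have h' : cls (a - 1) (a - 1 - 1) ((twist L).obj E) = cls (a - 1) (a - 1 - 1) E := by
      refine cycleHom_injective hδ ?_
      rw [cycleHom_cls hδ _ hE', cycleHom_cls hδ _ hE]
      funext x
      simp only [Cyc.sheafFun]
      split_ifs with hx
      · obtain ⟨g, hg⟩ := hgen x (by omega)
        obtain ⟨e⟩ := twistStalkIso_of_gen x g hg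
        exact congrArg (fun n : ℕ∞ => (n.toNat : ℤ)) (e.app E).toLinearEquiv.length_eq
      · rfl
    have h'' := congrArg (raiseHom δ (show a - 1 ≤ a by omega) _) h'
    rw [raiseHom_cls _ hE', raiseHom_cls _ hE, show a - 1 - 1 = a - 2 by ring] at h''
    exact h''
  have := hD0 h
  rw [AddMonoidHom.mem_ker, map_sub, hD hF, hD hG, sub_eq_zero] at this
  exact this

theorem genAbove_ref1 (hX : Pi1.IsNormalScheme X) (hδ : Cyc.IsDimFun X δ) (hη : δ (genericPoint X) = a)
    {L : X.Modules} (hL : RefHull.IsRef1 L) : GenAbove δ (a - 2) L := fun x hx => by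
  refine RefHullLib.exists_gen_codimOne hX hL ?_
  have h := AlgSpLib.cod_eq_dimFun hδ (genericPoint_specializes x)
  rw [EGA43.DimFormula.dimAt_eq_cod_of_irreducible] at h
  have hle : EGA43.DimFormula.dimAt x ≤ 1 := by omega
  rw [EGA43.DimFormula.ringKrullDim_eq_natDim]
  exact_mod_cast hle

/-- the class of the product of two rank one reflexive modules, modulo codimension two -/
theorem refTensor_mem_Fil (hX : Pi1.IsNormalScheme X) (hδ : Cyc.IsDimFun X δ) (hη : δ (genericPoint X) = a)
    {L₁ L₂ : X.Modules} (h₁ : RefHull.IsRef1 L₁) (h₂ : RefHull.IsRef1 L₂) :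
    cl δ a (RefPow.refTensor L₁ L₂) + cl δ a (Coh.structureModule X) - (cl δ a L₁ + cl δ a L₂) ∈
      Fil δ a (a - 2) := by
  have hO : RefHull.IsRef1 (Coh.structureModule X) := RefHullLib.isRef1_structureModule
  have hT := RefHullLib.isCoh_tensorMod h₁.1 h₂.1
  have e1 : cls a (a - 2) (CohB1.tensorMod L₁ L₂) = cls a (a - 2) (RefPow.refTensor L₁ L₂) :=
    cls_eq_of_bijective (RefHull.bidualMap (CohB1.tensorMod L₁ L₂)) (cohLe_top hδ hη hT)
      (cohLe_top hδ hη (RefHullLib.isCoh_ddual hT)) fun x hx => by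
        obtain ⟨g, hg⟩ := genAbove_ref1 hX hδ hη h₂ x hx
        obtain ⟨g', hg'⟩ := genAbove_ref1 hX hδ hη h₁ x hx
        refine (RefHullLib.bijective_stalk_bidualMap_iff hT x).2 (RefHullLib.isReflexiveAt_of_gen
          (t := (rho x g hg L₁).symm g') ?_)
        exact RefHullLib.bijective_smul_map (l := (rho x g hg L₁).symm.toLinearMap)
          (rho x g hg L₁).symm.bijective hg'
  have e2 := twist_shift hδ hη h₂.1 (genAbove_ref1 hX hδ hη h₂) h₁.1 hO.1
    (sub_mem_Fil_of_rankOne hδ hη h₁.1 hO.1 h₁.2.2 hO.2.2)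
  have e3 : cls a (a - 2) (CohB1.tensorMod (Coh.structureModule X) L₂) = cls a (a - 2) L₂ :=
    CycLib28.K0.cls_iso (AmpleLib.unitTensorIso L₂)
  rw [e1, e3, sub_eq_sub_iff_add_eq_add] at e2
  simp only [toK0CohQuot_eq, ← QuotientAddGroup.mk_add] at e2
  rw [← sub_eq_zero, ← QuotientAddGroup.mk_sub, QuotientAddGroup.eq_zero_iff] at e2
  rw [add_comm (cl δ a L₁)]
  exact e2

end Groth.Agent.RefCh22
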