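import Groth.Agent.RefCh22.IntNum
import Groth.Agent.CAlgH3.InvertibleDivisor
import Groth.Agent.KLLib.Basic

/-!
# The operation on rank one reflexive modules, through divisors
-/

set_option autoImplicit false
set_option linter.style.haveILetI false
set_option linter.unusedSectionVars false
set_option backward.isDefEq.respectTransparency.types false
universe u

open CategoryTheory CategoryTheory.Limits AlgebraicGeometry Groth.Agent.RefHullLib

namespace Groth.Agent.RefCh22

variable {X : Scheme.{u}} [IsIntegral X] [IsLocallyNoetherian X] {F G H : X.Modules}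

theorem isRef1_refTensor (hX : Pi1.IsNormalScheme X) (hF : RefHull.IsRef1 F) (hG : RefHull.IsRef1 G) :
    RefHull.IsRef1 (RefPow.refTensor F G) :=
  (exists_ddual_mul_section hX hF hG (exists_ne_zero_genericPoint hF.2.2).choose_spec.1
    (exists_ne_zero_genericPoint hG.2.2).choose_spec.1).1

theorem isRef1_dual (hX : Pi1.IsNormalScheme X) (hF : RefHull.IsRef1 F) : RefHull.IsRef1 (RefHull.dual F) :=
  (exists_dual_section hX hF (exists_ne_zero_genericPoint hF.2.2).choose_spec.1).1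

/-- divisors of reflexive powers -/
theorem exists_refPow_section (hX : Pi1.IsNormalScheme X) (hF : RefHull.IsRef1 F)
    {s : F.presheaf.stalk (genericPoint X)} (hs : s ≠ 0) : ∀ m : ℕ,
    ∃ w : (RefPow.refPow F m).presheaf.stalk (genericPoint X), w ≠ 0 ∧
      ∀ x : X, Order.coheight x = 1 → sOrd (RefPow.refPow F m) x w = (m : ℤ) * sOrd F x s
  | 0 => ⟨AssSch12.unitOne (genericPoint X), unitOne_ne_zero, fun x hx => by
      rw [Nat.cast_zero, zero_mul]; exact sOrd_unitOne hx⟩
  | 1 => ⟨s, hs, fun x _ => by rw [Nat.cast_one, one_mul]; rfl⟩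
  | m + 2 => by
    obtain ⟨v, hv, hvo⟩ := exists_refPow_section hX hF hs (m + 1)
    obtain ⟨-, w, hw, hwo⟩ := exists_ddual_mul_section hX (RefPowLib.isRef1_refPow hF (m + 1)) hF hv hs
    exact ⟨w, hw, fun x hx => (hwo x hx).trans (by rw [hvo x hx]; push_cast; ring)⟩

theorem refTensor_comm (hX : Pi1.IsNormalScheme X) (hF : RefHull.IsRef1 F) (hG : RefHull.IsRef1 G) :
    Nonempty (RefPow.refTensor F G ≅ RefPow.refTensor G F) := by
  obtain ⟨s, hs, -⟩ := exists_ne_zero_genericPoint hF.2.2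
  obtain ⟨t, ht, -⟩ := exists_ne_zero_genericPoint hG.2.2
  obtain ⟨h1, w1, hw1, o1⟩ := exists_ddual_mul_section hX hF hG hs ht
  obtain ⟨h2, w2, hw2, o2⟩ := exists_ddual_mul_section hX hG hF ht hs
  exact nonempty_iso_of_isDiv hX h1 h2 hw1 hw2 fun x hx => by rw [o1 x hx, o2 x hx, add_comm]

theorem refTensor_assoc (hX : Pi1.IsNormalScheme X) (hF : RefHull.IsRef1 F) (hG : RefHull.IsRef1 G)
    (hH : RefHull.IsRef1 H) :
    Nonempty (RefPow.refTensor (RefPow.refTensor F G) H ≅ RefPow.refTensor F (RefPow.refTensor G H)) := by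
  obtain ⟨s, hs, -⟩ := exists_ne_zero_genericPoint hF.2.2
  obtain ⟨t, ht, -⟩ := exists_ne_zero_genericPoint hG.2.2
  obtain ⟨r, hr, -⟩ := exists_ne_zero_genericPoint hH.2.2
  obtain ⟨h1, w1, hw1, o1⟩ := exists_ddual_mul_section hX hF hG hs ht
  obtain ⟨h2, w2, hw2, o2⟩ := exists_ddual_mul_section hX hG hH ht hr
  obtain ⟨h3, w3, hw3, o3⟩ := exists_ddual_mul_section hX h1 hH hw1 hr
  obtain ⟨h4, w4, hw4, o4⟩ := exists_ddual_mul_section hX hF h2 hs hw2
  exact nonempty_iso_of_isDiv hX h3 h4 hw3 hw4 fun x hx => by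
    rw [o3 x hx, o4 x hx, o1 x hx, o2 x hx, add_assoc]

theorem refTensor_dual (hX : Pi1.IsNormalScheme X) (hF : RefHull.IsRef1 F) :
    Nonempty (RefPow.refTensor F (RefHull.dual F) ≅ Coh.structureModule X) := by
  obtain ⟨s, hs, -⟩ := exists_ne_zero_genericPoint hF.2.2
  obtain ⟨h1, d, hd, o1⟩ := exists_dual_section hX hF hs
  obtain ⟨h2, w, hw, o2⟩ := exists_ddual_mul_section hX hF h1 hs hd
  exact nonempty_iso_of_isDiv hX h2 isRef1_structureModule hw unitOne_ne_zero fun x hx => by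
    rw [o2 x hx, o1 x hx, sOrd_unitOne hx, add_neg_cancel]

theorem refPow_refTensor (hX : Pi1.IsNormalScheme X) (hF : RefHull.IsRef1 F) (hG : RefHull.IsRef1 G) (m : ℕ) :
    Nonempty (RefPow.refPow (RefPow.refTensor F G) m ≅
      RefPow.refTensor (RefPow.refPow F m) (RefPow.refPow G m)) := by
  obtain ⟨s, hs, -⟩ := exists_ne_zero_genericPoint hF.2.2
  obtain ⟨t, ht, -⟩ := exists_ne_zero_genericPoint hG.2.2
  obtain ⟨h1, w, hw, o1⟩ := exists_ddual_mul_section hX hF hG hs ht
  obtain ⟨a, ha, oa⟩ := exists_refPow_section hX hF hs m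
  obtain ⟨b, hb, ob⟩ := exists_refPow_section hX hG ht m
  obtain ⟨c, hc, oc⟩ := exists_refPow_section hX h1 hw m
  obtain ⟨h2, v, hv, o2⟩ := exists_ddual_mul_section hX (RefPowLib.isRef1_refPow hF m)
    (RefPowLib.isRef1_refPow hG m) ha hb
  exact nonempty_iso_of_isDiv hX (RefPowLib.isRef1_refPow h1 m) h2 hc hv fun x hx => by
    rw [oc x hx, o2 x hx, oa x hx, ob x hx, o1 x hx, mul_add]

theorem refPow_add (hX : Pi1.IsNormalScheme X) (hF : RefHull.IsRef1 F) (m n : ℕ) :
    Nonempty (RefPow.refPow F (m + n) ≅ RefPow.refTensor (RefPow.refPow F m) (RefPow.refPow F n)) := by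
  obtain ⟨s, hs, -⟩ := exists_ne_zero_genericPoint hF.2.2
  obtain ⟨a, ha, oa⟩ := exists_refPow_section hX hF hs m
  obtain ⟨b, hb, ob⟩ := exists_refPow_section hX hF hs n
  obtain ⟨c, hc, oc⟩ := exists_refPow_section hX hF hs (m + n)
  obtain ⟨h2, v, hv, o2⟩ := exists_ddual_mul_section hX (RefPowLib.isRef1_refPow hF m)
    (RefPowLib.isRef1_refPow hF n) ha hb
  exact nonempty_iso_of_isDiv hX (RefPowLib.isRef1_refPow hF _) h2 hc hv fun x hx => by
    rw [oc x hx, o2 x hx, oa x hx, ob x hx, Nat.cast_add, add_mul]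

/-- the tensor product with an invertible module is already reflexive -/
theorem refTensor_invertible (hF : RefHull.IsRef1 F) (hG : PicF.IsInvertible G) :
    Nonempty (RefPow.refTensor F G ≅ CohB1.tensorMod F G) := by
  have hG' := CAlgH3.InvertibleDivisor.isRef1 hG
  have hT := RefHullLib.isCoh_tensorMod hF.1 hG'.1
  haveI : IsIso (RefHull.bidualMap (CohB1.tensorMod F G)) :=
    (isReflexive_iff_stalks hT).2 fun x => by
      obtain ⟨g, hg⟩ := CAlgH3.InvertibleDivisor.exists_gen hG x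
      haveI : Module.IsReflexive (X.presheaf.stalk x) ((DerSch.stalkFunctor X x).obj F) :=
        (isReflexive_iff_stalks hF.1).1 hF.2.1 x
      exact Module.IsReflexive.of_split
        (CycLib28.K0.rho x g hg F).toLinearMap (CycLib28.K0.rho x g hg F).symm.toLinearMap
        (LinearMap.ext fun v => (CycLib28.K0.rho x g hg F).symm_apply_apply v)
  exact ⟨(asIso (RefHull.bidualMap (CohB1.tensorMod F G))).symm⟩

variable {δ : X → ℤ} {a : ℤ}

/-- twists of the powers of an invertible module -/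
theorem exists_t_refPow (hG : PicF.IsInvertible G) : ∀ m : ℕ,
    ∃ h : PicF.IsInvertible (RefPow.refPow G m), t δ a h = t δ a hG ^ m
  | 0 => ⟨AmpleLib.isInvertible_structureModule, (Subtype.ext tau_one).trans (pow_zero _).symm⟩
  | 1 => ⟨hG, (pow_one _).symm⟩
  | m + 2 => by
    obtain ⟨h, e⟩ := exists_t_refPow hG (m + 1)
    obtain ⟨i⟩ := refTensor_invertible (CAlgH3.InvertibleDivisor.isRef1 h) hG
    have h2 := AmpleLib.isInvertible_tensorMod h hG
    refine ⟨KLLib.isInvertible_of_iso i.symm h2, ?_⟩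
    rw [pow_succ, ← e, ← t_tensor h hG h2]
    exact Subtype.ext (tau_congr i (KLLib.isInvertible_of_iso i.symm h2) h2)

theorem cl_refPow_refTensor_invertible (hX : Pi1.IsNormalScheme X) (hδ : Cyc.IsDimFun X δ)
    (hη : δ (genericPoint X) = a) (hF : RefHull.IsRef1 F) (hG : PicF.IsInvertible G) (m : ℕ) :
    cl δ a (RefPow.refPow (RefPow.refTensor F G) m) = (t δ a hG ^ m).1 (cl δ a (RefPow.refPow F m)) := by
  obtain ⟨h, e⟩ := exists_t_refPow (δ := δ) (a := a) hG m
  obtain ⟨i⟩ := refPow_refTensor hX hF (CAlgH3.InvertibleDivisor.isRef1 hG) m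
  obtain ⟨j⟩ := refTensor_invertible (RefPowLib.isRef1_refPow hF m) h
  rw [cl_iso i, cl_iso j, ← e]
  exact (tau_cl h (cohLe_top hδ hη (RefPowLib.isRef1_refPow hF m).1)).symm

end Groth.Agent.RefCh22
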