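import Groth.Agent.RefCh22.DefectStep
import Groth.Agent.RefCh22.Ops

/-!
# Quasi-additivity of `D ↦ u [O(D)]`

For `u` killing the classes supported in dimension `≤ a - 3`, the third difference of `D ↦ u [O(D)]` along
multiples of fixed Weil divisors grows at most linearly.
-/

set_option autoImplicit false
set_option linter.style.haveILetI false
set_option linter.unusedSectionVars false
set_option backward.isDefEq.respectTransparency.types false
universe u

open CategoryTheory CategoryTheory.Limits AlgebraicGeometry TopologicalSpace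
open Groth.Agent.Coherent Groth.Agent.RefHullLib

namespace Groth.Agent.RefCh22

open CycLib28.K0

variable {X : Scheme.{u}} [IsIntegral X] [IsLocallyNoetherian X] {δ : X → ℤ} {a : ℤ}

/-- a class carried by a cycle of dimension `a - 2` -/
def CycEq (hδ : Cyc.IsDimFun X δ) (c : K δ a) (v : X → ℤ) : Prop :=
  ∃ d : Cyc.K0CohQuot δ (a - 2) (a - 2 - 1),
    raiseHom δ (sub_le_self a zero_le_two) (a - 2 - 1) d = QuotientAddGroup.mk c ∧ cycleHom hδ (a - 2) d = v

section CycEq

variable {hδ : Cyc.IsDimFun X δ} {c c' : K δ a} {v v' : X → ℤ}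

theorem CycEq.zero : CycEq hδ (0 : K δ a) 0 := ⟨0, map_zero _, map_zero _⟩

theorem CycEq.add (h : CycEq hδ c v) (h' : CycEq hδ c' v') : CycEq hδ (c + c') (v + v') := by
  obtain ⟨d, e₁, e₂⟩ := h
  obtain ⟨d', e₁', e₂'⟩ := h'
  exact ⟨d + d', by rw [map_add, e₁, e₁', QuotientAddGroup.mk_add], by rw [map_add, e₂, e₂']⟩

theorem CycEq.neg (h : CycEq hδ c v) : CycEq hδ (-c) (-v) := by
  obtain ⟨d, e₁, e₂⟩ := h
  exact ⟨-d, by rw [map_neg, e₁, QuotientAddGroup.mk_neg], by rw [map_neg, e₂]⟩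

theorem CycEq.sub (h : CycEq hδ c v) (h' : CycEq hδ c' v') : CycEq hδ (c - c') (v - v') := by
  rw [sub_eq_add_neg, sub_eq_add_neg]
  exact h.add h'.neg

theorem cycEq_cl {E : X.Modules} (hE : Cyc.CohLe δ (a - 2) E) :
    CycEq hδ (cl δ a E) (Cyc.sheafFun δ (a - 2) E) :=
  ⟨_, raiseHom_cls (b := a - 2 - 1) _ hE, cycleHom_cls hδ (a - 2) hE⟩

variable (u : K δ a →+ ℤ) (hu : ∀ x ∈ Fil δ a (a - 2 - 1), u x = 0)
include hu

theorem CycEq.apply_eq (h : CycEq hδ c v) (h' : CycEq hδ c' v) : u c = u c' := by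
  obtain ⟨d, e₁, e₂⟩ := h
  obtain ⟨d', e₁', e₂'⟩ := h'
  have hd : d = d' := cycleHom_injective hδ (e₂.trans e₂'.symm)
  subst hd
  have e := e₁.symm.trans e₁'
  rw [← sub_eq_zero, ← QuotientAddGroup.mk_sub, QuotientAddGroup.eq_zero_iff] at e
  rw [← sub_eq_zero, ← map_sub]
  exact hu _ e

theorem exists_apply_bound (hδ : Cyc.IsDimFun X δ) (S : Finset X) (C : ℤ) :
    ∃ B : ℤ, ∀ (c : K δ a) (v : X → ℤ), CycEq hδ c v → (∀ x, x ∉ S → v x = 0) → (∀ x, |v x| ≤ C) → |u c| ≤ B := by
  classical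
  let W : (X → ℤ) → ℤ := fun v => if h : ∃ c : K δ a, CycEq hδ c v then |u h.choose| else 0
  have hW : ∀ v, 0 ≤ W v := fun v => by
    show 0 ≤ dite _ _ _
    split_ifs
    · exact abs_nonneg _
    · exact le_rfl
  let g : (S → Set.Icc (-C) C) → (X → ℤ) := fun f x => if h : x ∈ S then (f ⟨x, h⟩ : ℤ) else 0
  refine ⟨∑ f, W (g f), fun c v hc h0 hb => ?_⟩
  let f : S → Set.Icc (-C) C := fun x => ⟨v x.1, abs_le.1 (hb x.1)⟩
  have hg : g f = v := funext fun x => by
    show dite _ _ _ = _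
    split_ifs with h
    · rfl
    · exact (h0 x h).symm
  refine le_of_eq_of_le ?_ (Finset.single_le_sum (fun f' _ => hW (g f')) (Finset.mem_univ f))
  have hex : ∃ c : K δ a, CycEq hδ c v := ⟨c, hc⟩
  rw [hg]
  show |u c| = dite _ _ _
  rw [dif_pos hex]
  exact congrArg _ (hc.apply_eq u hu hex.choose_spec)

end CycEq

/-- the difference along a prime -/
noncomputable def gcl (δ : X → ℤ) (a : ℤ) (P : X) (D : X →₀ ℤ) : K δ a :=
  cl δ a (dm D) - cl δ a (dm (D - Finsupp.single P 1))

variable (hX : Pi1.IsNormalScheme X) (hδ : Cyc.IsDimFun X δ) (hη : δ (genericPoint X) = a)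
include hX hη

/-- **the cycle of the second difference along `P`** -/
theorem cycEq_gcl {P : X} (hP : Order.coheight P = 1) (A : X →₀ ℤ) :
    (∀ Q ∈ A.support, Order.coheight Q = 1 ∧ Q ≠ P) → ∀ D : X →₀ ℤ,
      CycEq hδ (gcl δ a P (D + A) - gcl δ a P D) (Iv hX δ a hP (D + A) - Iv hX δ a hP D) := by
  have step : ∀ Q : X, Order.coheight Q = 1 → Q ≠ P → ∀ (n : ℤ) (D : X →₀ ℤ),
      CycEq hδ (gcl δ a P (D + Finsupp.single Q n) - gcl δ a P D)
        (Iv hX δ a hP (D + Finsupp.single Q n) - Iv hX δ a hP D) := by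
    intro Q hQ hQP
    have one : ∀ D : X →₀ ℤ, CycEq hδ (gcl δ a P (D + Finsupp.single Q 1) - gcl δ a P D)
        (Iv hX δ a hP (D + Finsupp.single Q 1) - Iv hX δ a hP D) := fun D => by
      obtain ⟨E, hE, hcl, hcy⟩ := exists_second_diff hX hδ hη hP hQ hQP.symm (D - Finsupp.single P 1)
      have h := cycEq_cl (hδ := hδ) hE
      rw [hcl, hcy, sub_add_cancel] at h
      rw [gcl, gcl, show D + Finsupp.single Q 1 - Finsupp.single P 1 =
        D - Finsupp.single P 1 + Finsupp.single Q 1 from add_sub_right_comm D _ _]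
      exact h
    intro n
    induction n using Int.induction_on with
    | zero => intro D; rw [Finsupp.single_zero, add_zero, sub_self, sub_self]; exact CycEq.zero
    | succ n ih =>
      intro D
      have h := (one (D + Finsupp.single Q (n : ℤ))).add (ih D)
      rw [sub_add_sub_cancel, sub_add_sub_cancel] at h
      rwa [Finsupp.single_add, ← add_assoc]
    | pred n ih =>
      intro D
      have h := (ih D).sub (one (D + Finsupp.single Q (-(n : ℤ) - 1)))
      rw [add_assoc D, ← Finsupp.single_add, sub_add_cancel, sub_sub_sub_cancel_left,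
        sub_sub_sub_cancel_left] at h
      exact h
  induction A using Finsupp.induction with
  | zero => intro _ D; rw [add_zero, sub_self, sub_self]; exact CycEq.zero
  | @single_add Q n f hQ hn ih =>
    intro hA D
    classical
    have hsupp : ∀ y, y ∈ (Finsupp.single Q n + f).support ↔ (Finsupp.single Q n + f) y ≠ 0 := fun y =>
      Finsupp.mem_support_iff
    have hfQ : f Q = 0 := Finsupp.notMem_support_iff.1 hQ
    have hQmem : Q ∈ (Finsupp.single Q n + f).support := by
      rw [hsupp, Finsupp.add_apply, Finsupp.single_eq_same, hfQ, add_zero]; exact hn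
    have hf : ∀ R ∈ f.support, Order.coheight R = 1 ∧ R ≠ P := fun R hR => hA R (by
      have hRQ : R ≠ Q := fun e => hQ (e ▸ hR)
      rw [hsupp, Finsupp.add_apply, Finsupp.single_eq_of_ne hRQ, zero_add]
      exact Finsupp.mem_support_iff.1 hR)
    have h := (ih hf (D + Finsupp.single Q n)).add (step Q (hA Q hQmem).1 (hA Q hQmem).2 n D)
    rw [sub_add_sub_cancel, sub_add_sub_cancel] at h
    rwa [← add_assoc]

omit hX hη

section Compact

variable [CompactSpace X]

/-- the divisor of a rational function -/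
theorem exists_dvF (hX : Pi1.IsNormalScheme X) {h : X.functionField} (hh : h ≠ 0) :
    ∃ G : X →₀ ℤ, (∀ y ∈ G.support, Order.coheight y = 1) ∧
      ∀ y : X, Order.coheight y = 1 → G y = Scheme.ord h y := by
  classical
  let f : X → ℤ := fun y => if Order.coheight y = 1 then Scheme.ord h y else 0
  have hfin : (Function.support f).Finite := by
    obtain ⟨t, ht⟩ := isCompact_univ.elim_finite_subcover (fun V : X.affineOpens => (V.1 : Set X))
      (fun V => V.1.isOpen) (fun x _ => by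
        obtain ⟨_, ⟨V, hV, rfl⟩, hxV, -⟩ :=
          X.isBasis_affineOpens.exists_subset_of_mem_open (Set.mem_univ x) isOpen_univ
        exact Set.mem_iUnion.2 ⟨⟨V, hV⟩, hxV⟩)
    refine (t.finite_toSet.biUnion fun V _ => finite_ord_ne_zero hX V.2 hh).subset fun y hy => ?_
    obtain ⟨V, hVt, hyV⟩ := Set.mem_iUnion₂.1 (ht (Set.mem_univ y))
    change (if Order.coheight y = 1 then Scheme.ord h y else 0) ≠ 0 at hy
    by_cases hy1 : Order.coheight y = 1
    · rw [if_pos hy1] at hy
      exact Set.mem_iUnion₂.2 ⟨V, hVt, hyV, hy1, hy⟩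
    · rw [if_neg hy1] at hy
      exact absurd rfl hy
  refine ⟨Finsupp.ofSupportFinite f hfin, fun y hy => ?_, fun y hy => if_pos hy⟩
  by_contra hy1
  exact Finsupp.mem_support_iff.1 hy (if_neg hy1)

/-- the divisor of a section -/
theorem exists_div {F : X.Modules} (hF : RefHull.IsRef1 F) {s : F.presheaf.stalk (genericPoint X)} (hs : s ≠ 0) :
    ∃ D : X →₀ ℤ, (∀ y ∈ D.support, Order.coheight y = 1) ∧
      ∀ y : X, Order.coheight y = 1 → D y = sOrd F y s := by
  obtain ⟨Z, hZ0, hZ⟩ := exists_cycle_sOrd hF hs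
  have hfin : (Function.support ⇑Z).Finite := by
    have := LocallyFiniteSupport.finite_inter_support_of_isCompact Z.locallyFiniteSupport isCompact_univ
    rwa [Set.univ_inter] at this
  refine ⟨Finsupp.ofSupportFinite ⇑Z hfin, fun y hy => ?_, hZ⟩
  by_contra hy1
  exact Finsupp.mem_support_iff.1 hy (hZ0 y hy1)

/-- invariance under linear equivalence -/
theorem cl_dm_translate (hX : Pi1.IsNormalScheme X) (δ : X → ℤ) (a : ℤ) {h : X.functionField} (hh : h ≠ 0) {G : X →₀ ℤ}
    (hG : ∀ y : X, Order.coheight y = 1 → G y = Scheme.ord h y) (n : ℤ) (D : X →₀ ℤ) :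
    cl δ a (dm (D + n • G)) = cl δ a (dm D) := by
  obtain ⟨F, hF, s, hs, hD⟩ := exists_ref1_of_cycle hX (toCyc D)
  obtain ⟨i⟩ := nonempty_iso_dm (D := D) hX hF hs hD
  have hn : h ^ n ≠ 0 := zpow_ne_zero n hh
  have hns : (h ^ n : X.functionField) • s ≠ 0 := fun e => hs (by
    have := congrArg (fun z => ((h ^ n : X.functionField))⁻¹ • z) e
    simpa [smul_smul, inv_mul_cancel₀ hn] using this)
  obtain ⟨j⟩ := nonempty_iso_dm (D := D + n • G) hX hF hns fun y hy => by
    obtain ⟨t, ht⟩ := exists_gen_codimOne hX hF ((ringKrullDim_eq_one_iff_coheight y).2 hy).le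
    rw [sOrd_smul hF.1.1 hy ht hn hs, ord_zpow' hy hh, ← hG y hy, ← hD y hy]
    rfl
  rw [cl_iso i, cl_iso j]

theorem finite_two_primes (hδ : Cyc.IsDimFun X δ) (hη : δ (genericPoint X) = a) {P Q : X}
    (hP : Order.coheight P = 1) (hQ : Order.coheight Q = 1) (hPQ : P ≠ Q) :
    {x : X | δ x = a - 2 ∧ P ⤳ x ∧ Q ⤳ x}.Finite := by
  haveI : IsNoetherian X := {}
  obtain ⟨F, hF, hcl, hirr, hFeq⟩ := NoetherianSpace.exists_finite_set_isClosed_irreducible
    ((isClosed_closure (s := ({P} : Set X))).inter (isClosed_closure (s := ({Q} : Set X))))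
  refine (hF.dependent_image fun t ht => (hirr t ht).genericPoint).subset ?_
  rintro x ⟨hx, hPx, hQx⟩
  have hxZ : x ∈ closure ({P} : Set X) ∩ closure ({Q} : Set X) := ⟨hPx.mem_closure, hQx.mem_closure⟩
  rw [hFeq] at hxZ
  obtain ⟨t, ht, hxt⟩ := hxZ
  have hgp : IsGenericPoint (hirr t ht).genericPoint t := by
    have := (hirr t ht).isGenericPoint_genericPoint_closure
    rwa [(hcl t ht).closure_eq] at this
  refine ⟨t, ht, ?_⟩
  by_contra hne
  have hy : (hirr t ht).genericPoint ∈ closure ({P} : Set X) ∩ closure ({Q} : Set X) := by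
    rw [hFeq]
    exact ⟨t, ht, hgp.mem⟩
  have h1 := delta_le_of_two_primes hδ hη hP hQ hPQ (specializes_iff_mem_closure.2 hy.1)
    (specializes_iff_mem_closure.2 hy.2)
  have h2 := (hδ _ x (hgp.specializes hxt) hne).1
  omega

variable (k : Type u) [Field k] [X.Over (Spec (CommRingCat.of k))]
  [LocallyOfFiniteType (X ↘ (Spec (CommRingCat.of k)))]

include k in
/-- the cycles of second differences along `P` are additive up to a bounded error, with fixed finite support -/
theorem exists_Iv_bound (hX : Pi1.IsNormalScheme X) (hδ : Cyc.IsDimFun X δ) (hη : δ (genericPoint X) = a) {P : X}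
    (hP : Order.coheight P = 1) (T₀ : Finset X) (hT₀ : ∀ Q ∈ T₀, Order.coheight Q = 1 ∧ Q ≠ P) :
    ∃ (S : Finset X) (C : ℤ), ∀ A : X →₀ ℤ, A.support ⊆ T₀ → ∀ (D D' : X →₀ ℤ) (x : X),
      (x ∉ S → Iv hX δ a hP (D + A) x - Iv hX δ a hP D x = 0) ∧
        |(Iv hX δ a hP (D + A) x - Iv hX δ a hP D x) - (Iv hX δ a hP (D' + A) x - Iv hX δ a hP D' x)| ≤ C := by
  classical
  have hfin : {x : X | δ x = a - 2 ∧ P ⤳ x ∧ ∃ Q ∈ T₀, Q ⤳ x}.Finite :=
    (T₀.finite_toSet.biUnion fun Q hQ => finite_two_primes hδ hη hP (hT₀ Q hQ).1 (hT₀ Q hQ).2.symm).subset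
      fun x ⟨h1, h2, Q, hQ, h3⟩ => Set.mem_iUnion₂.2 ⟨Q, hQ, h1, h2, h3⟩
  choose Cx hCx using fun (x : X) (h : δ x = a - 2 ∧ P ⤳ x) =>
    exists_local_bound k hX x (ringKrullDim_le_two hδ hη h.1) ⟨P, hP, h.2⟩
  let Cf : X → ℤ := fun x => if h : δ x = a - 2 ∧ P ⤳ x then |Cx x h| else 0
  have hCf : ∀ x, 0 ≤ Cf x := fun x => by
    show 0 ≤ dite _ _ _
    split_ifs
    · exact abs_nonneg _
    · exact le_rfl
  refine ⟨hfin.toFinset, 2 * ∑ x ∈ hfin.toFinset, Cf x, fun A hA D D' x => ?_⟩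
  have hzero : x ∉ hfin.toFinset → ∀ D : X →₀ ℤ, Iv hX δ a hP (D + A) x - Iv hX δ a hP D x = 0 := fun hx D => by
    simp only [Iv]
    split_ifs with h
    · have : resDiv x A = 0 := Finsupp.ext fun i => by
        show A i.1 = 0
        by_contra hne
        exact hx (hfin.mem_toFinset.2 ⟨h.1, h.2, i.1, hA (Finsupp.mem_support_iff.2 hne), i.2.2⟩)
      rw [map_add, this, add_zero, sub_self]
    · exact sub_self 0
  refine ⟨fun hx => hzero hx D, ?_⟩
  by_cases hx : x ∈ hfin.toFinset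
  · have hx' := hfin.mem_toFinset.1 hx
    have h : δ x = a - 2 ∧ P ⤳ x := ⟨hx'.1, hx'.2.1⟩
    have hle : Cf x ≤ ∑ y ∈ hfin.toFinset, Cf y := Finset.single_le_sum (fun y _ => hCf y) hx
    have hCe : Cf x = |Cx x h| := dif_pos h
    have h1 := abs_le.1 (hCx x h (resDiv x D) (resDiv x A))
    have h2 := abs_le.1 (hCx x h (resDiv x D') (resDiv x A))
    have h3 := le_abs_self (Cx x h)
    simp only [Iv, dif_pos h, map_add]
    rw [abs_le]
    omega
  · rw [hzero hx D, hzero hx D', sub_self, abs_zero]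
    exact mul_nonneg zero_le_two (Finset.sum_nonneg fun y _ => hCf y)

variable (u : K δ a →+ ℤ)

/-- the second difference in two fixed directions -/
noncomputable def second (α β Γ : X →₀ ℤ) : ℤ :=
  u (cl δ a (dm (Γ + α + β))) - u (cl δ a (dm (Γ + α))) - u (cl δ a (dm (Γ + β))) + u (cl δ a (dm Γ))

include k in
theorem exists_step_bound (hX : Pi1.IsNormalScheme X) (hδ : Cyc.IsDimFun X δ) (hη : δ (genericPoint X) = a)
    (hu : ∀ x ∈ Fil δ a (a - 2 - 1), u x = 0) (A : X →₀ ℤ) (hA : ∀ y ∈ A.support, Order.coheight y = 1) {P : X}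
    (hP : Order.coheight P = 1) :
    ∃ B : ℤ, ∀ (m : ℤ) (β Γ : X →₀ ℤ),
      |second u (m • A) β Γ - second u (m • A) β (Γ - Finsupp.single P 1)| ≤ B := by
  classical
  have hh : unif P ≠ 0 := unif_ne_zero P
  obtain ⟨G, hGs, hG⟩ := exists_dvF hX hh
  let A' := A - A P • G
  have hA'P : A' P = 0 := by
    show A P - A P * G P = 0
    rw [hG P hP, ord_unif hX hP, mul_one, sub_self]
  have hA' : ∀ Q ∈ A'.support, Order.coheight Q = 1 ∧ Q ≠ P := fun Q hQ => by
    have hne : A' Q ≠ 0 := Finsupp.mem_support_iff.1 hQ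
    refine ⟨?_, fun e => hne (e ▸ hA'P)⟩
    by_contra h1
    refine hne ?_
    show A Q - A P * G Q = 0
    rw [show A Q = 0 from not_not.1 fun h => h1 (hA Q (Finsupp.mem_support_iff.2 h)),
      show G Q = 0 from not_not.1 fun h => h1 (hGs Q (Finsupp.mem_support_iff.2 h)), mul_zero, sub_zero]
  obtain ⟨S, C, hSC⟩ := exists_Iv_bound k hX hδ hη hP A'.support hA'
  obtain ⟨B, hB⟩ := exists_apply_bound u hu hδ S C
  refine ⟨B, fun m β Γ => ?_⟩
  let α' := m • A'
  have hα's : α'.support ⊆ A'.support := Finsupp.support_smul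
  have htr : ∀ y : X →₀ ℤ, cl δ a (dm (y + m • A)) = cl δ a (dm (y + α')) := fun y => by
    have e : y + m • A = y + α' + (m * A P) • G := by
      show y + m • A = y + m • (A - A P • G) + (m * A P) • G
      rw [smul_sub, smul_smul]
      abel
    rw [e]
    exact cl_dm_translate hX δ a hh hG _ _
  have h := ((cycEq_gcl hX hδ hη hP α' (fun Q hQ => hA' Q (hα's hQ)) (Γ + β)).sub
    (cycEq_gcl hX hδ hη hP α' (fun Q hQ => hA' Q (hα's hQ)) Γ))
  have hb := hB _ _ h (fun x hx => by
      have h1 := (hSC α' hα's (Γ + β) Γ x).1 hx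
      have h2 := (hSC α' hα's Γ Γ x).1 hx
      show (Iv hX δ a hP (Γ + β + α') x - Iv hX δ a hP (Γ + β) x) -
        (Iv hX δ a hP (Γ + α') x - Iv hX δ a hP Γ x) = 0
      rw [h1, h2, sub_self])
    (fun x => (hSC α' hα's (Γ + β) Γ x).2)
  refine le_of_eq_of_le (congrArg abs ?_) hb
  simp only [second, gcl, map_sub]
  rw [show Γ + m • A + β = Γ + β + m • A from add_right_comm _ _ _,
    show Γ - Finsupp.single P 1 + m • A + β = Γ + β - Finsupp.single P 1 + m • A by abel,
    show Γ - Finsupp.single P 1 + β = Γ + β - Finsupp.single P 1 by abel,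
    htr, htr, htr, htr,
    show Γ + β - Finsupp.single P 1 + α' = Γ + β + α' - Finsupp.single P 1 by abel,
    show Γ - Finsupp.single P 1 + α' = Γ + α' - Finsupp.single P 1 by abel]
  ring

include k in
theorem exists_line_bound (hX : Pi1.IsNormalScheme X) (hδ : Cyc.IsDimFun X δ) (hη : δ (genericPoint X) = a)
    (hu : ∀ x ∈ Fil δ a (a - 2 - 1), u x = 0) (A : X →₀ ℤ) (hA : ∀ y ∈ A.support, Order.coheight y = 1)
    (C : X →₀ ℤ) : (∀ y ∈ C.support, Order.coheight y = 1) →
    ∃ L : ℤ, ∀ (m j : ℤ) (β Γ : X →₀ ℤ), |second u (m • A) β (Γ + j • C) - second u (m • A) β Γ| ≤ L * |j| := by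
  induction C using Finsupp.induction with
  | zero => intro _; exact ⟨0, fun m j β Γ => by simp⟩
  | @single_add P n f hP hn ih =>
    intro hC
    classical
    have hfP : f P = 0 := Finsupp.notMem_support_iff.1 hP
    have hPm : P ∈ (Finsupp.single P n + f).support := by
      rw [Finsupp.mem_support_iff, Finsupp.add_apply, Finsupp.single_eq_same, hfP, add_zero]; exact hn
    have hf : ∀ R ∈ f.support, Order.coheight R = 1 := fun R hR => hC R (by
      have hRP : R ≠ P := fun e => hP (e ▸ hR)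
      rw [Finsupp.mem_support_iff, Finsupp.add_apply, Finsupp.single_eq_of_ne hRP, zero_add]
      exact Finsupp.mem_support_iff.1 hR)
    obtain ⟨L, hL⟩ := ih hf
    obtain ⟨B, hB⟩ := exists_step_bound k u hX hδ hη hu A hA (hC P hPm)
    have hline : ∀ (i : ℤ) (m : ℤ) (β Γ : X →₀ ℤ),
        |second u (m • A) β (Γ + Finsupp.single P i) - second u (m • A) β Γ| ≤ B * |i| := by
      intro i
      induction i using Int.induction_on with
      | zero => intro m β Γ; simp
      | succ i ih' =>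
        intro m β Γ
        have h1 := hB m β (Γ + Finsupp.single P ((i : ℤ) + 1))
        rw [add_sub_assoc, ← Finsupp.single_sub, add_sub_cancel_right] at h1
        refine (abs_sub_le _ (second u (m • A) β (Γ + Finsupp.single P (i : ℤ))) _).trans ?_
        have h2 := ih' m β Γ
        rw [abs_of_nonneg (Int.natCast_nonneg i)] at h2
        rw [abs_of_nonneg (by omega : (0 : ℤ) ≤ (i : ℤ) + 1), mul_add, mul_one]
        linarith
      | pred i ih' =>
        intro m β Γ
        have h1 := hB m β (Γ + Finsupp.single P (-(i : ℤ)))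
        rw [add_sub_assoc, ← Finsupp.single_sub, abs_sub_comm] at h1
        refine (abs_sub_le _ (second u (m • A) β (Γ + Finsupp.single P (-(i : ℤ)))) _).trans ?_
        have h2 := ih' m β Γ
        rw [abs_neg, abs_of_nonneg (Int.natCast_nonneg i)] at h2
        rw [abs_of_nonpos (by omega : -(i : ℤ) - 1 ≤ 0), show -(-(i : ℤ) - 1) = i + 1 by ring, mul_add, mul_one]
        linarith
    refine ⟨L + B * |n|, fun m j β Γ => ?_⟩
    rw [smul_add, Finsupp.smul_single, smul_eq_mul, ← add_assoc]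
    refine (abs_sub_le _ (second u (m • A) β (Γ + Finsupp.single P (j * n))) _).trans ?_
    have h1 := hL m j β (Γ + Finsupp.single P (j * n))
    have h2 := hline (j * n) m β Γ
    rw [abs_mul] at h2
    rw [add_mul, mul_assoc, mul_comm |n|]
    linarith

include k in
/-- **quasi-additivity** -/
theorem exists_third_bound (hX : Pi1.IsNormalScheme X) (hδ : Cyc.IsDimFun X δ) (hη : δ (genericPoint X) = a)
    (hu : ∀ x ∈ Fil δ a (a - 2 - 1), u x = 0) (A B C : X →₀ ℤ) (hA : ∀ y ∈ A.support, Order.coheight y = 1)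
    (hC : ∀ y ∈ C.support, Order.coheight y = 1) :
    ∃ L : ℤ, ∀ m : ℕ,
      |u (cl δ a (dm ((m : ℤ) • (A + B + C)))) - u (cl δ a (dm ((m : ℤ) • (A + B)))) -
          u (cl δ a (dm ((m : ℤ) • (A + C)))) - u (cl δ a (dm ((m : ℤ) • (B + C)))) +
          u (cl δ a (dm ((m : ℤ) • A))) + u (cl δ a (dm ((m : ℤ) • B))) + u (cl δ a (dm ((m : ℤ) • C)))| ≤
        L * ((m : ℤ) + 1) := by
  obtain ⟨L, hL⟩ := exists_line_bound k u hX hδ hη hu A hA C hC
  let c := u (cl δ a (dm (0 : X →₀ ℤ)))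
  refine ⟨|L| + |c|, fun m => ?_⟩
  have h := hL m m ((m : ℤ) • B) 0
  simp only [second, zero_add] at h
  rw [show (m : ℤ) • C + (m : ℤ) • A + (m : ℤ) • B = (m : ℤ) • (A + B + C) by simp only [smul_add]; abel,
    show (m : ℤ) • C + (m : ℤ) • A = (m : ℤ) • (A + C) by simp only [smul_add]; abel,
    show (m : ℤ) • C + (m : ℤ) • B = (m : ℤ) • (B + C) by simp only [smul_add]; abel,
    ← smul_add, abs_of_nonneg (Int.natCast_nonneg m)] at h
  have h1 : L * (m : ℤ) ≤ |L| * m := mul_le_mul_of_nonneg_right (le_abs_self L) (Int.natCast_nonneg m)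
  have h2 := le_abs_self c
  have h3 := neg_abs_le c
  have h4 : 0 ≤ |c| * (m : ℤ) := mul_nonneg (abs_nonneg c) (Int.natCast_nonneg m)
  have h5 := abs_le.1 h
  have h6 := abs_nonneg L
  rw [abs_le, add_mul, mul_add, mul_add, mul_one, mul_one]
  simp only [c] at h2 h3 h4 ⊢
  constructor <;> linarith

end Compact

end Groth.Agent.RefCh22
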