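import Groth.Agent.RefCh22.PointSys

/-!
# The class of a second difference of divisorial modules
-/

set_option autoImplicit false
set_option linter.style.haveILetI false
set_option linter.unusedSectionVars false
set_option backward.isDefEq.respectTransparency.types false
universe u

open CategoryTheory CategoryTheory.Limits AlgebraicGeometry TopologicalSpace IsLocalRing
open Groth.Agent.Coherent Groth.Agent.RefHullLib

namespace Groth.Agent.RefCh22

open CycLib28.K0

variable {X : Scheme.{u}} [IsIntegral X] [IsLocallyNoetherian X]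

/-- the restriction of a divisor to the codimension one points through `x` -/
noncomputable def resDiv (x : X) : (X →₀ ℤ) →+ (Idx x →₀ ℤ) where
  toFun D := D.subtypeDomain fun y => Order.coheight y = 1 ∧ y ⤳ x
  map_zero' := Finsupp.subtypeDomain_zero
  map_add' _ _ := Finsupp.subtypeDomain_add

theorem resDiv_apply (x : X) (D : X →₀ ℤ) (i : Idx x) : resDiv x D i = D i.1 := rfl

theorem resDiv_single (x : X) (i : Idx x) (n : ℤ) : resDiv x (Finsupp.single i.1 n) = Finsupp.single i n := by
  classical
  ext j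
  rw [resDiv_apply, Finsupp.single_apply, Finsupp.single_apply]
  simp only [Subtype.ext_iff]

theorem resDiv_single_of_not (x : X) {y : X} (hy : ¬ y ⤳ x) (n : ℤ) : resDiv x (Finsupp.single y n) = 0 := by
  classical
  ext j
  rw [resDiv_apply, Finsupp.single_apply, if_neg (fun h : y = j.1 => hy (h ▸ j.2.2))]
  rfl

theorem range_stValₗ (hX : Pi1.IsNormalScheme X) (x : X) (D : X →₀ ℤ) :
    LinearMap.range (stValₗ x D) = (pointSys hX x).O (resDiv x D) := by
  ext z
  show z ∈ Set.range (stVal x D) ↔ z ∈ Set.range (stVal x (extDiv x (resDiv x D)))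
  rw [mem_range_stVal, mem_range_stVal]
  refine forall_congr' fun y => forall_congr' fun hy => forall_congr' fun hy1 => ?_
  rw [show extDiv x (resDiv x D) y = D y from extDiv_apply x _ ⟨y, hy1, hy⟩]

variable {δ : X → ℤ} {a : ℤ}

theorem dimAt_eq (hδ : Cyc.IsDimFun X δ) (hη : δ (genericPoint X) = a) (x : X) :
    (EGA43.DimFormula.dimAt x : ℤ) = a - δ x := by
  have h := AlgSpLib.cod_eq_dimFun hδ (genericPoint_specializes x)
  rwa [EGA43.DimFormula.dimAt_eq_cod_of_irreducible, hη] at h

theorem delta_of_coheight (hδ : Cyc.IsDimFun X δ) (hη : δ (genericPoint X) = a) {y : X}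
    (hy : Order.coheight y = 1) : δ y = a - 1 := by
  have h := (ringKrullDim_eq_one_iff_coheight y).2 hy
  rw [EGA43.DimFormula.ringKrullDim_eq_natDim] at h
  have h' : EGA43.DimFormula.dimAt y = 1 := by exact_mod_cast h
  have := dimAt_eq hδ hη y
  omega

theorem ringKrullDim_le_two (hδ : Cyc.IsDimFun X δ) (hη : δ (genericPoint X) = a) {x : X} (hx : δ x = a - 2) :
    ringKrullDim (X.presheaf.stalk x) ≤ 2 := by
  have := dimAt_eq hδ hη x
  rw [EGA43.DimFormula.ringKrullDim_eq_natDim]
  have h2 : EGA43.DimFormula.dimAt x ≤ 2 := by omega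
  exact_mod_cast h2

theorem delta_le_of_two_primes (hδ : Cyc.IsDimFun X δ) (hη : δ (genericPoint X) = a) {P Q x : X}
    (hP : Order.coheight P = 1) (hQ : Order.coheight Q = 1) (hPQ : P ≠ Q) (h₁ : P ⤳ x) (h₂ : Q ⤳ x) :
    δ x ≤ a - 2 := by
  have hne : P ≠ x := by
    rintro rfl
    exact absurd (hδ Q P h₂ hPQ.symm).1 (by rw [delta_of_coheight hδ hη hP, delta_of_coheight hδ hη hQ]; omega)
  have := (hδ P x h₁ hne).1
  rw [delta_of_coheight hδ hη hP] at this
  omega

/-- the lattice index along `P`, as a function on the points of dimension `a - 2` -/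
noncomputable def Iv (hX : Pi1.IsNormalScheme X) (δ : X → ℤ) (a : ℤ) {P : X} (hP : Order.coheight P = 1)
    (D : X →₀ ℤ) : X → ℤ := fun x =>
  open Classical in
  if h : δ x = a - 2 ∧ P ⤳ x then (pointSys hX x).idx ⟨P, hP, h.2⟩ (resDiv x D) else 0

/-- **the second difference is the class of a module in dimension two less** -/
theorem exists_second_diff (hX : Pi1.IsNormalScheme X) (hδ : Cyc.IsDimFun X δ) (hη : δ (genericPoint X) = a)
    {P Q : X} (hP : Order.coheight P = 1) (hQ : Order.coheight Q = 1) (hPQ : P ≠ Q) (D : X →₀ ℤ) :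
    ∃ Eo : X.Modules, Cyc.CohLe δ (a - 2) Eo ∧
      cl δ a Eo = cl δ a (dm (D + Finsupp.single P 1 + Finsupp.single Q 1)) - cl δ a (dm (D + Finsupp.single Q 1)) -
        (cl δ a (dm (D + Finsupp.single P 1)) - cl δ a (dm D)) ∧
      Cyc.sheafFun δ (a - 2) Eo =
        Iv hX δ a hP (D + Finsupp.single P 1 + Finsupp.single Q 1) - Iv hX δ a hP (D + Finsupp.single P 1) := by
  classical
  set E := D + Finsupp.single P 1 + Finsupp.single Q 1
  set E₁ := D + Finsupp.single P 1
  set E₂ := D + Finsupp.single Q 1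
  have hs : ∀ (R y : X), (0 : ℤ) ≤ Finsupp.single R 1 y ∧ Finsupp.single R (1 : ℤ) y ≤ 1 := fun R y => by
    rw [Finsupp.single_apply]; split_ifs <;> omega
  have l₁ : ∀ y, E₁ y ≤ E y := fun y => by
    have := hs Q y; simp only [E, E₁, Finsupp.add_apply]; omega
  have l₂ : ∀ y, E₂ y ≤ E y := fun y => by
    have := hs P y; simp only [E, E₂, Finsupp.add_apply]; omega
  have l₀ : ∀ y, D y ≤ E₁ y := fun y => by
    have := hs P y; simp only [E₁, Finsupp.add_apply]; omega
  have l₀₂ : ∀ y, D y ≤ E₂ y := fun y => by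
    have := hs Q y; simp only [E₂, Finsupp.add_apply]; omega
  have l₀E : ∀ y, D y ≤ E y := fun y => (l₀ y).trans (l₁ y)
  let f := incl hX l₁ ≫ cokernel.π (incl hX l₂)
  let St := fun x : X => DerSch.stalkFunctor X x
  -- the stalks
  have hπ : ∀ (x : X) (v : (St x).obj (dm E)),
      (St x).map (cokernel.π (incl hX l₂)) v = 0 ↔ stVal x E v ∈ LinearMap.range (stValₗ x E₂) := fun x v => by
    have hex := (ShortComplex.exact_cokernel (incl hX l₂)).map (St x)
    constructor
    · intro h
      obtain ⟨w, hw⟩ := hex.moduleCat_range_eq_ker.ge (LinearMap.mem_ker.2 h)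
      refine ⟨w, ?_⟩
      rw [← hw]
      exact (stVal_incl hX l₂ x w).symm
    · rintro ⟨w, hw⟩
      have : v = (St x).map (incl hX l₂) w := stVal_injective x ((hw.symm).trans (stVal_incl hX l₂ x w).symm)
      rw [this, ← ConcreteCategory.comp_apply, ← Functor.map_comp, cokernel.condition, Functor.map_zero]
      rfl
  have hO : ∀ (x : X) (F : X →₀ ℤ) (z : X.functionField), z ∈ LinearMap.range (stValₗ x F) ↔
      ∀ y : X, y ⤳ x → Order.coheight y = 1 → z ∈ lat y (F y) := fun x F z => mem_range_stVal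
  have hinf : ∀ (x : X) (z : X.functionField), z ∈ LinearMap.range (stValₗ x D) ↔
      z ∈ LinearMap.range (stValₗ x E₁) ∧ z ∈ LinearMap.range (stValₗ x E₂) := fun x z => by
    simp only [hO]
    refine ⟨fun h => ⟨fun y hy hy1 => lat_mono hX hy1 (l₀ y) (h y hy hy1),
      fun y hy hy1 => lat_mono hX hy1 (l₀₂ y) (h y hy hy1)⟩, fun h y hy hy1 => ?_⟩
    by_cases hyP : y = P
    · have := h.2 y hy hy1
      rwa [show E₂ y = D y by simp [E₂, Finsupp.single_apply, hyP, Ne.symm hPQ]] at this
    · have := h.1 y hy hy1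
      rwa [show E₁ y = D y by simp [E₁, Finsupp.single_apply, Ne.symm hyP]] at this
  -- the kernel of `f`
  have w : incl hX l₀ ≫ f = 0 := by
    have e : incl hX l₀ ≫ incl hX l₁ = incl hX l₀₂ ≫ incl hX l₂ := rfl
    show incl hX l₀ ≫ incl hX l₁ ≫ cokernel.π (incl hX l₂) = 0
    rw [← Category.assoc, e, Category.assoc, cokernel.condition, comp_zero]
  let κ := kernel.lift f (incl hX l₀) w
  haveI : IsIso κ := ModStalk.isIso_of_stalks _ fun x => by
    rw [ConcreteCategory.isIso_iff_bijective]
    refine ⟨fun v v' h => stVal_injective x ?_, fun v => ?_⟩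
    · rw [← stVal_incl hX l₀, ← stVal_incl hX l₀]
      refine congrArg (stVal x E₁) ?_
      show (St x).map (incl hX l₀) v = (St x).map (incl hX l₀) v'
      rw [← kernel.lift_ι f (incl hX l₀) w, Functor.map_comp]
      exact congrArg ((St x).map (kernel.ι f)) h
    · have h0 : (St x).map f ((St x).map (kernel.ι f) v) = 0 := by
        rw [← ConcreteCategory.comp_apply, ← Functor.map_comp, kernel.condition, Functor.map_zero]
        rfl
      rw [show (St x).map f ((St x).map (kernel.ι f) v) = (St x).map (cokernel.π (incl hX l₂))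
        ((St x).map (incl hX l₁) ((St x).map (kernel.ι f) v)) by
          rw [← ConcreteCategory.comp_apply ((St x).map (incl hX l₁)), ← Functor.map_comp]] at h0
      have h1 := (hπ x _).1 h0
      rw [show stVal x E ((St x).map (incl hX l₁) ((St x).map (kernel.ι f) v)) =
        stVal x E₁ ((St x).map (kernel.ι f) v) from stVal_incl hX l₁ x _] at h1
      obtain ⟨u, hu⟩ := (hinf x _).2 ⟨⟨_, rfl⟩, h1⟩
      refine ⟨u, (ModuleCat.mono_iff_injective ((St x).map (kernel.ι f))).1 inferInstance ?_⟩
      rw [← ConcreteCategory.comp_apply, ← Functor.map_comp, kernel.lift_ι]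
      exact stVal_injective x ((stVal_incl hX l₀ x u).trans hu)
  -- the classes
  have hcoh : ∀ F : X →₀ ℤ, Cyc.CohLe δ a (dm F) := fun F => cohLe_top hδ hη (isCoh_dm hX F)
  have hC₂c : Coh.IsCoh (cokernel (incl hX l₂)) := isCoh_cokernel _ (isCoh_dm hX E₂).1 (isCoh_dm hX E)
  have hI : Coh.IsQCoh (Abelian.image f) := by
    have := (isCoh_dm hX E₁).1
    have := hC₂c.1
    exact isQCoh_image f
  have hIm : Cyc.CohLe δ a (Abelian.image f) := cohLe_top hδ hη (isCoh_of_mono (Abelian.image.ι f) hC₂c hI)
  have hker : Cyc.CohLe δ a (kernel f) := CohLe.of_iso (asIso κ) (hcoh D)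
  have hEoc : Coh.IsCoh (cokernel f) := isCoh_cokernel f (isCoh_dm hX E₁).1 hC₂c
  let π := Abelian.factorThruImage f
  have w₁ : kernel.ι f ≫ π = 0 := by
    rw [← cancel_mono (Abelian.image.ι f), Category.assoc, Abelian.image.fac, kernel.condition, zero_comp]
  have hS₁ : (ShortComplex.mk (kernel.ι f) π w₁).ShortExact :=
    { mono_f := inferInstanceAs (Mono (kernel.ι f))
      epi_g := inferInstanceAs (Epi (Abelian.factorThruImage f))
      exact := ShortComplex.exact_of_f_is_kernel _
        (isKernelOfComp (f := π) (Abelian.image.ι f) f (kernelIsKernel f) w₁ (Abelian.image.fac f)) }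
  have hS₂ : (ShortComplex.mk (Abelian.image.ι f) (cokernel.π f) (kernel.condition _)).ShortExact :=
    { mono_f := inferInstanceAs (Mono (kernel.ι (cokernel.π f)))
      epi_g := inferInstanceAs (Epi (cokernel.π f))
      exact := ShortComplex.exact_kernel (cokernel.π f) }
  have hS₃ : (ShortComplex.mk (incl hX l₂) (cokernel.π (incl hX l₂)) (cokernel.condition _)).ShortExact :=
    { mono_f := mono_incl hX l₂
      epi_g := inferInstanceAs (Epi (cokernel.π (incl hX l₂)))
      exact := ShortComplex.exact_cokernel (incl hX l₂) }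
  have ecl : cl δ a (cokernel f) = cl δ a (dm E) - cl δ a (dm E₂) - (cl δ a (dm E₁) - cl δ a (dm D)) := by
    have e1 := cl_ses hS₁ hker (hcoh E₁) hIm
    have e2 := cl_ses hS₂ hIm (cohLe_top hδ hη hC₂c) (cohLe_top hδ hη hEoc)
    have e3 := cl_ses hS₃ (hcoh E₂) (hcoh E) (cohLe_top hδ hη hC₂c)
    dsimp only at e1 e2 e3
    rw [← cl_iso (asIso κ)] at e1
    rw [e3, e2, e1]
    abel
  -- the stalks of the cokernel
  let q := fun x : X => ((St x).map (cokernel.π (incl hX l₂) ≫ cokernel.π f)).hom
  have hq : ∀ x, Function.Surjective (q x) := fun x => (ModuleCat.epi_iff_surjective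
    ((St x).map (cokernel.π (incl hX l₂) ≫ cokernel.π f))).1 inferInstance
  have hqk : ∀ (x : X) (v : (St x).obj (dm E)), q x v = 0 ↔
      stVal x E v ∈ LinearMap.range (stValₗ x E₁) ⊔ LinearMap.range (stValₗ x E₂) := fun x v => by
    have hq' : q x v = (St x).map (cokernel.π f) ((St x).map (cokernel.π (incl hX l₂)) v) := by
      show (St x).map (cokernel.π (incl hX l₂) ≫ cokernel.π f) v = _
      rw [Functor.map_comp]
      rfl
    have hfe : ∀ w : (St x).obj (dm E₁), (St x).map f w =
        (St x).map (cokernel.π (incl hX l₂)) ((St x).map (incl hX l₁) w) := fun w => by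
      rw [← ConcreteCategory.comp_apply, ← Functor.map_comp]
    rw [hq', Submodule.mem_sup]
    constructor
    · intro h
      obtain ⟨w, hw⟩ := ((ShortComplex.exact_cokernel f).map (St x)).moduleCat_range_eq_ker.ge
        (LinearMap.mem_ker.2 h)
      change (St x).map f w = _ at hw
      rw [hfe] at hw
      have h2 := (hπ x (v - (St x).map (incl hX l₁) w)).1 (by rw [map_sub, hw, sub_self])
      refine ⟨_, ⟨w, rfl⟩, _, h2, ?_⟩
      show stVal x E₁ w + stVal x E (v - (St x).map (incl hX l₁) w) = stVal x E v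
      refine Eq.trans ?_ ((stVal_add x _ _).symm.trans (congrArg (stVal x E) (add_sub_cancel ((St x).map (incl hX l₁) w) v)))
      exact congrArg (· + _) (stVal_incl hX l₁ x w).symm
    · rintro ⟨_, ⟨w, rfl⟩, z, ⟨w₂, rfl⟩, h⟩
      have hv : v = (St x).map (incl hX l₁) w + (St x).map (incl hX l₂) w₂ := stVal_injective x (by
        exact (h.symm.trans (congrArg₂ (· + ·) (stVal_incl hX l₁ x w).symm (stVal_incl hX l₂ x w₂).symm)).trans
          (stVal_add x _ _).symm)
      rw [hv, map_add, ← hfe, ← ConcreteCategory.comp_apply ((St x).map (incl hX l₂)), ← Functor.map_comp,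
        cokernel.condition, Functor.map_zero]
      show (St x).map (cokernel.π f) ((St x).map f w + 0) = 0
      rw [add_zero, ← ConcreteCategory.comp_apply, ← Functor.map_comp, cokernel.condition, Functor.map_zero]
      rfl
  have hsub : ∀ x : X, (¬ P ⤳ x ∨ ¬ Q ⤳ x) → Subsingleton ((St x).obj (cokernel f)) := fun x hx => by
    refine subsingleton_of_forall_eq 0 fun c => ?_
    obtain ⟨v, rfl⟩ := hq x c
    refine (hqk x v).2 ?_
    have hv := (hO x E (stVal x E v)).1 ⟨v, rfl⟩
    rcases hx with h | h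
    · refine Submodule.mem_sup_right ((hO x E₂ _).2 fun y hy hy1 => ?_)
      have := hv y hy hy1
      rwa [show E y = E₂ y by simp [E, E₂, Finsupp.single_apply, show P ≠ y from fun e => h (e ▸ hy)]] at this
    · refine Submodule.mem_sup_left ((hO x E₁ _).2 fun y hy hy1 => ?_)
      have := hv y hy hy1
      rwa [show E y = E₁ y by simp [E, E₁, Finsupp.single_apply, show Q ≠ y from fun e => h (e ▸ hy)]] at this
  refine ⟨cokernel f, ⟨hEoc, fun x hx => ?_⟩, ecl, funext fun x => ?_⟩
  · by_contra hlt
    have : ¬ P ⤳ x ∨ ¬ Q ⤳ x := by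
      by_contra h
      push Not at h
      exact hlt (delta_le_of_two_primes hδ hη hP hQ hPQ h.1 h.2)
    exact not_subsingleton_iff_nontrivial.2 hx (hsub x this)
  simp only [Cyc.sheafFun, Iv, Pi.sub_apply]
  by_cases hx : δ x = a - 2
  swap
  · rw [if_neg hx, dif_neg fun h => hx h.1, dif_neg fun h => hx h.1, sub_zero]
  rw [if_pos hx]
  by_cases hPx : P ⤳ x
  swap
  · rw [dif_neg fun h => hPx h.2, dif_neg fun h => hPx h.2, sub_zero]
    haveI := hsub x (Or.inl hPx)
    rw [show Module.length (X.presheaf.stalk x) ((cokernel f).presheaf.stalk x) = 0 from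
      Module.length_eq_zero_iff.2 this]
    rfl
  rw [dif_pos ⟨hx, hPx⟩, dif_pos ⟨hx, hPx⟩]
  by_cases hQx : Q ⤳ x
  swap
  · haveI := hsub x (Or.inr hQx)
    rw [show Module.length (X.presheaf.stalk x) ((cokernel f).presheaf.stalk x) = 0 from
      Module.length_eq_zero_iff.2 this, show E = E₁ + Finsupp.single Q 1 from rfl, map_add,
      resDiv_single_of_not x hQx, add_zero, sub_self]
    rfl
  let i : Idx x := ⟨P, hP, hPx⟩
  let j : Idx x := ⟨Q, hQ, hQx⟩
  have hij : i ≠ j := fun h => hPQ (congrArg Subtype.val h)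
  have rE₁ : resDiv x E₁ = resDiv x D + Finsupp.single i 1 := by
    rw [show E₁ = D + Finsupp.single i.1 1 from rfl, map_add, resDiv_single]
  have rE₂ : resDiv x E₂ = resDiv x D + Finsupp.single j 1 := by
    rw [show E₂ = D + Finsupp.single j.1 1 from rfl, map_add, resDiv_single]
  have rE : resDiv x E = resDiv x D + Finsupp.single i 1 + Finsupp.single j 1 := by
    rw [show E = E₁ + Finsupp.single j.1 1 from rfl, map_add, resDiv_single, rE₁]
  rw [rE, rE₁, (pointSys hX x).idx_diff (curveLike x (ringKrullDim_le_two hδ hη hx)) i j hij]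
  rw [← rE, ← rE₁, ← rE₂, ← range_stValₗ hX, ← range_stValₗ hX, ← range_stValₗ hX]
  let e := LinearEquiv.ofInjective (stValₗ x E) (stVal_injective x)
  let g : LinearMap.range (stValₗ x E) →ₗ[X.presheaf.stalk x] (St x).obj (cokernel f) :=
    (q x).comp e.symm.toLinearMap
  have hg : Function.Surjective g := (hq x).comp e.symm.surjective
  have hgk : LinearMap.ker g =
      (LinearMap.range (stValₗ x E₁) ⊔ LinearMap.range (stValₗ x E₂)).comap (LinearMap.range (stValₗ x E)).subtype := by
    ext z
    obtain ⟨v, rfl⟩ := e.surjective z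
    show q x (e.symm (e v)) = 0 ↔ _
    rw [e.symm_apply_apply]
    exact hqk x v
  exact congrArg (fun n : ℕ∞ => (n.toNat : ℤ))
    ((Submodule.quotEquivOfEq _ _ hgk.symm).trans (g.quotKerEquivOfSurjective hg)).length_eq.symm

end Groth.Agent.RefCh22
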