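import Groth.Agent.CycLib28.K0.C1Class
import Groth.Agent.CycLib28.K0.KernelClass
import Groth.Agent.CycLib28.InterSheaf
import Groth.Agent.CycLib28.Graph
import Groth.Agent.CycLib28.PB.ChernExist
import Groth.Agent.AlgSpLib.DimFun
import Groth.Agent.AmpleLib.Tensor
import Groth.Agent.AmpleLib.Power
import Groth.Agent.EulerLib.Degree
import Groth.Agent.RefHullLib.RankOne
import Groth.Agent.RefPowLib.Basic
import Groth.Prelude.Def_FGA
import Mathlib

/-!
# Products of `1 - [M]` on `K₀(Coh_{≤a})`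

Twisting by an invertible module is an endomorphism `τ` of `KZero.K0sub (Cyc.CohLe δ a)`; `1 - τ` lowers the
filtration by dimension of support, so products of them kill it.
-/

set_option autoImplicit false
set_option linter.style.haveILetI false
set_option linter.unusedSectionVars false
set_option backward.isDefEq.respectTransparency.types false
universe u

open CategoryTheory CategoryTheory.Limits AlgebraicGeometry
open scoped ZeroObject

namespace Groth.Agent.RefCh22

open CycLib28.K0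

variable {X : Scheme.{u}} [IsLocallyNoetherian X] {δ : X → ℤ} {a b : ℤ}

variable (δ a) in
/-- The Grothendieck group. -/
abbrev K : Type (u + 1) := KZero.K0sub (Cyc.CohLe δ a)

variable (δ a) in
/-- The class of a module. -/
noncomputable abbrev cl (F : X.Modules) : K δ a := KZero.clSub (Cyc.CohLe δ a) F

variable (δ a b) in
/-- Classes supported in dimension `≤ b`. -/
noncomputable def Fil : AddSubgroup (K δ a) :=
  AddSubgroup.closure {c | ∃ F : X.Modules, Cyc.CohLe δ b F ∧ c = KZero.clSub (Cyc.CohLe δ a) F}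

theorem cl_def {F : X.Modules} (h : Cyc.CohLe δ a F) :
    cl δ a F = QuotientAddGroup.mk (FreeAbelianGroup.of ⟨F, h⟩) := dif_pos h

theorem cl_ses {S : ShortComplex X.Modules} (hS : S.ShortExact) (h₁ : Cyc.CohLe δ a S.X₁)
    (h₂ : Cyc.CohLe δ a S.X₂) (h₃ : Cyc.CohLe δ a S.X₃) :
    cl δ a S.X₂ = cl δ a S.X₁ + cl δ a S.X₃ := by
  rw [cl_def h₁, cl_def h₂, cl_def h₃, ← sub_eq_zero, ← QuotientAddGroup.mk_add, ← QuotientAddGroup.mk_sub,
    QuotientAddGroup.eq_zero_iff, ← sub_sub]
  exact AddSubgroup.subset_closure ⟨S, h₁, h₂, h₃, hS, rfl⟩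

theorem cl_iso {F G : X.Modules} (e : F ≅ G) : cl δ a F = cl δ a G := by
  by_cases h : Cyc.CohLe δ a F
  · have hG := CohLe.of_iso e h
    have hS : (ShortComplex.mk (0 : (0 : X.Modules) ⟶ F) e.hom zero_comp).ShortExact :=
      { exact := (ShortComplex.exact_iff_mono _ rfl).2 (inferInstanceAs (Mono e.hom))
        mono_f := ⟨fun g g' _ => (isZero_zero _).eq_of_tgt g g'⟩
        epi_g := inferInstanceAs (Epi e.hom) }
    rw [cl_ses hS (CohLe.zero (isZero_zero _)) h hG, show cl δ a (0 : X.Modules) = 0 from clSub_zero, zero_add]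
  · have hG : ¬ Cyc.CohLe δ a G := fun hG => h (CohLe.of_iso e.symm hG)
    rw [cl, cl, KZero.clSub, KZero.clSub, dif_neg h, dif_neg hG]

theorem mem_Fil {F : X.Modules} (h : Cyc.CohLe δ b F) : cl δ a F ∈ Fil δ a b :=
  AddSubgroup.subset_closure ⟨F, h, rfl⟩

theorem toK0CohQuot_eq (F : X.Modules) : Cyc.toK0CohQuot δ a b F = QuotientAddGroup.mk (cl δ a F) := rfl

theorem sub_mem_Fil_of_cls_eq {F G : X.Modules} (h : Cyc.toK0CohQuot δ a b F = Cyc.toK0CohQuot δ a b G) :
    cl δ a F - cl δ a G ∈ Fil δ a b := by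
  rw [toK0CohQuot_eq, toK0CohQuot_eq, ← sub_eq_zero, ← QuotientAddGroup.mk_sub,
    QuotientAddGroup.eq_zero_iff] at h
  exact h

theorem Fil_eq_bot (h0 : ∀ x, 0 ≤ δ x) (hb : b < 0) : Fil δ a b = ⊥ := by
  rw [Fil, AddSubgroup.closure_eq_bot_iff]
  rintro _ ⟨F, hF, rfl⟩
  have hsub : ∀ x, Subsingleton (F.presheaf.stalk x) := fun x => CohLe.subsingleton hF (hb.trans_le (h0 x))
  haveI : Mono (0 : F ⟶ (0 : X.Modules)) :=
    OmegaLib.mono_of_stalks_injective _ fun x p q _ => by
      haveI := hsub x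
      exact Subsingleton.elim (α := F.presheaf.stalk x) p q
  have hz : IsZero F := IsZero.of_mono (0 : F ⟶ (0 : X.Modules)) (isZero_zero _)
  exact (cl_iso hz.isoZero).trans clSub_zero

/-! ### Twists -/

/-- Twisting as an endomorphism; zero for modules which are not invertible. -/
noncomputable def tau (δ : X → ℤ) (a : ℤ) {L : X.Modules} (hL : PicF.IsInvertible L) :
    AddMonoid.End (K δ a) :=
  QuotientAddGroup.lift _ (FreeAbelianGroup.lift fun F => cl δ a ((twist L).obj F.1)) (by
    refine (AddSubgroup.closure_le _).2 ?_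
    rintro x ⟨S, h₁, h₂, h₃, hS, rfl⟩
    have w : (twist L).map S.f ≫ (twist L).map S.g = 0 := by
      rw [← Functor.map_comp, S.zero, Functor.map_zero]
    rw [SetLike.mem_coe, AddMonoidHom.mem_ker, map_sub, map_sub, FreeAbelianGroup.lift_apply_of,
      FreeAbelianGroup.lift_apply_of, FreeAbelianGroup.lift_apply_of,
      show cl δ a ((twist L).obj S.X₂) = _ from cl_ses (twist_shortExact hL hS w)
        (cohLe_twist hL h₁) (cohLe_twist hL h₂) (cohLe_twist hL h₃)]
    abel)

theorem tau_cl {L : X.Modules} (hL : PicF.IsInvertible L) {F : X.Modules} (hF : Cyc.CohLe δ a F) :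
    tau δ a hL (cl δ a F) = cl δ a (CohB1.tensorMod F L) := by
  rw [cl_def hF]
  exact FreeAbelianGroup.lift_apply_of (fun F : Subtype (Cyc.CohLe δ a) => cl δ a ((twist L).obj F.1)) ⟨F, hF⟩

theorem end_ext {f g : AddMonoid.End (K δ a)}
    (h : ∀ F : X.Modules, Cyc.CohLe δ a F → f (cl δ a F) = g (cl δ a F)) : f = g :=
  QuotientAddGroup.addMonoidHom_ext _ (FreeAbelianGroup.lift_ext _ _ fun F => by
    have := h F.1 F.2
    rwa [cl_def F.2] at this)

theorem tau_congr {L L' : X.Modules} (e : L ≅ L') (hL : PicF.IsInvertible L) (hL' : PicF.IsInvertible L') :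
    tau δ a hL = tau δ a hL' :=
  end_ext fun F hF => by
    rw [tau_cl hL hF, tau_cl hL' hF]
    exact cl_iso (AmpleLib.tensorComm F L ≪≫ (twist F).mapIso e ≪≫ AmpleLib.tensorComm L' F)

theorem tau_one : tau δ a (AmpleLib.isInvertible_structureModule (X := X)) = 1 :=
  end_ext fun F hF => by
    rw [tau_cl _ hF]
    exact cl_iso (AmpleLib.tensorComm F _ ≪≫ AmpleLib.unitTensorIso F)

theorem tau_tensor {L M : X.Modules} (hL : PicF.IsInvertible L) (hM : PicF.IsInvertible M) :
    tau δ a (AmpleLib.isInvertible_tensorMod hL hM) = tau δ a hM * tau δ a hL :=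
  end_ext fun F hF => by
    show _ = tau δ a hM (tau δ a hL (cl δ a F))
    rw [tau_cl _ hF, tau_cl hL hF, tau_cl hM (F := CohB1.tensorMod F L) (cohLe_twist hL hF)]
    exact cl_iso (EulerLib.exists_assocIso' F hL hM).some.symm

theorem tau_comm {L M : X.Modules} (hL : PicF.IsInvertible L) (hM : PicF.IsInvertible M) :
    tau δ a hL * tau δ a hM = tau δ a hM * tau δ a hL := by
  rw [← tau_tensor hM hL, ← tau_tensor hL hM]
  exact tau_congr (AmpleLib.tensorComm M L) _ _

variable (δ a) in
/-- The commutative ring generated by the twists. -/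
noncomputable abbrev T : Subring (AddMonoid.End (K δ a)) :=
  Subring.closure (Set.range fun L : {L : X.Modules // PicF.IsInvertible L} => tau δ a L.2)

noncomputable instance instCommRingT : CommRing (T δ a) :=
  Subring.closureCommRingOfComm (by
    rintro _ ⟨L, rfl⟩ _ ⟨M, rfl⟩
    exact tau_comm L.2 M.2)

variable (δ a) in
/-- The twist in the commutative ring. -/
noncomputable def t {L : X.Modules} (hL : PicF.IsInvertible L) : T δ a :=
  ⟨tau δ a hL, Subring.subset_closure ⟨⟨L, hL⟩, rfl⟩⟩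

theorem t_tensor {L M : X.Modules} (hL : PicF.IsInvertible L) (hM : PicF.IsInvertible M)
    (hLM : PicF.IsInvertible (CohB1.tensorMod L M)) : t δ a hLM = t δ a hL * t δ a hM := by
  rw [mul_comm]
  exact Subtype.ext (tau_tensor hL hM)

theorem t_list {ι : Type*} {M : ι → X.Modules} (hM : ∀ i, PicF.IsInvertible (M i)) (l : List ι) :
    ∃ h : PicF.IsInvertible (FGA.tensorList (l.map M)), t δ a h = (l.map fun i => t δ a (hM i)).prod := by
  induction l with
  | nil => exact ⟨AmpleLib.isInvertible_structureModule, Subtype.ext tau_one⟩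
  | cons i l ih =>
    obtain ⟨h, e⟩ := ih
    refine ⟨AmpleLib.isInvertible_tensorMod (hM i) h, ?_⟩
    refine (t_tensor (hM i) h _).trans ?_
    rw [List.map_cons, List.prod_cons, e]

/-- The alternating sum over subsets is the product of the `1 - [M i]`. -/
theorem sum_subsets {ι : Type*} [Fintype ι] [LinearOrder ι] {M : ι → X.Modules}
    (hM : ∀ i, PicF.IsInvertible (M i)) {F : X.Modules} (hF : Cyc.CohLe δ a F) :
    ∑ I : Finset ι, ((-1 : ℤ) ^ I.card) •
        cl δ a (CohB1.tensorMod (FGA.tensorList ((I.sort (· ≤ ·)).map M)) F) =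
      (∏ i, (1 - t δ a (hM i))).1 (cl δ a F) := by
  classical
  have h1 : (∏ i, (1 - t δ a (hM i))) = ∑ I : Finset ι, ((-1 : ℤ) ^ I.card) • ∏ i ∈ I, t δ a (hM i) := by
    simp_rw [sub_eq_add_neg, add_comm (1 : T δ a)]
    rw [Finset.prod_add, Finset.powerset_univ]
    refine Finset.sum_congr rfl fun I _ => ?_
    rw [Finset.prod_neg, Finset.prod_const_one, mul_one, zsmul_eq_mul]
    push_cast
    ring
  rw [h1, AddSubmonoidClass.coe_finsetSum]
  refine Eq.trans ?_ (map_sum (AddMonoidHom.eval (N := K δ a) (cl δ a F)) _ _).symm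
  refine Finset.sum_congr rfl fun I _ => ?_
  show _ = ((((-1 : ℤ) ^ I.card) • ∏ i ∈ I, t δ a (hM i) : T δ a) : AddMonoid.End (K δ a)) (cl δ a F)
  obtain ⟨h, e⟩ := t_list (δ := δ) (a := a) hM (I.sort (· ≤ ·))

  have h3 : ((I.sort (· ≤ ·)).map fun i => t δ a (hM i)).prod = ∏ i ∈ I, t δ a (hM i) := by
    rw [← Multiset.prod_coe, ← Multiset.map_coe, Finset.sort_eq]
    rfl
  rw [AddSubgroupClass.coe_zsmul]
  show _ = ((-1 : ℤ) ^ I.card) • (∏ i ∈ I, t δ a (hM i)).1 (cl δ a F)
  rw [← h3, ← e,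
    cl_iso (AmpleLib.tensorComm (FGA.tensorList ((I.sort (· ≤ ·)).map M)) F)]
  exact congrArg _ (tau_cl h hF).symm

/-! ### Lowering -/

theorem one_sub_t_mem (hδ : Cyc.IsDimFun X δ) {L : X.Modules} (hL : PicF.IsInvertible L) (hba : b ≤ a)
    {x : K δ a} (hx : x ∈ Fil δ a b) : (1 - t δ a hL).1 x ∈ Fil δ a (b - 1) := by
  show x ∈ (Fil δ a (b - 1)).comap (1 - tau δ a hL : AddMonoid.End (K δ a))
  refine (AddSubgroup.closure_le _).2 ?_ hx
  rintro _ ⟨G, hG, rfl⟩
  rw [SetLike.mem_coe, AddSubgroup.mem_comap]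
  show cl δ a G - tau δ a hL (cl δ a G) ∈ _
  rw [tau_cl hL (CohLe.weaken hG hba)]
  refine sub_mem_Fil_of_cls_eq ?_
  have h : Cyc.toK0CohQuot δ b (b - 1) ((twist L).obj G) = Cyc.toK0CohQuot δ b (b - 1) G := by
    refine cycleHom_injective hδ ?_
    rw [cycleHom_cls hδ b (cohLe_twist hL hG), cycleHom_cls hδ b hG]
    funext x
    simp only [Cyc.sheafFun]
    split_ifs with hx
    · exact congrArg (fun n : ℕ∞ => (n.toNat : ℤ)) (len_twist hL G x)
    · rfl
  have h' := congrArg (raiseHom δ hba (b - 1)) h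
  rw [raiseHom_cls _ (cohLe_twist hL hG), raiseHom_cls _ hG] at h'
  exact h'.symm

theorem prod_one_sub_mem (hδ : Cyc.IsDimFun X δ) {ι : Type*} {M : ι → X.Modules}
    (hM : ∀ i, PicF.IsInvertible (M i)) (S : Finset ι) (hba : b ≤ a) {x : K δ a} (hx : x ∈ Fil δ a b) :
    (∏ i ∈ S, (1 - t δ a (hM i))).1 x ∈ Fil δ a (b - S.card) := by
  classical
  induction S using Finset.induction generalizing b x with
  | empty => simpa using hx
  | insert i S hi ih =>
    rw [Finset.prod_insert hi, mul_comm, Finset.card_insert_of_notMem hi, Nat.cast_add, Nat.cast_one,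
      show b - ((S.card : ℤ) + 1) = b - 1 - S.card by ring]
    exact ih (by omega) (one_sub_t_mem hδ (hM i) hba hx)

/-! ### Varieties -/

section Variety

variable [IsIntegral X] {F G : X.Modules}

theorem cohLe_top (hδ : Cyc.IsDimFun X δ) (hη : δ (genericPoint X) = a) (hF : Coh.IsCoh F) :
    Cyc.CohLe δ a F :=
  ⟨hF, fun x _ => hη ▸ AlgSpLib.strictAnti_dimFun hδ (genericPoint_specializes x)⟩

theorem length_genericPoint (hF : RefHull.GenInvertible F) :
    Module.length (X.presheaf.stalk (genericPoint X)) (F.presheaf.stalk (genericPoint X)) =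
      Module.length (X.presheaf.stalk (genericPoint X)) (X.presheaf.stalk (genericPoint X)) := by
  obtain ⟨U, hU, s, hs⟩ := RefHullLib.exists_gen_genericPoint hF
  exact (LinearEquiv.ofBijective
    (LinearMap.toSpanSingleton (X.presheaf.stalk (genericPoint X)) _ (F.presheaf.germ U _ hU s))
    (SDiv28.bijective_smul_germ_gen hs hU)).length_eq.symm

theorem sub_mem_Fil_of_rankOne (hδ : Cyc.IsDimFun X δ) (hη : δ (genericPoint X) = a) (hF : Coh.IsCoh F)
    (hG : Coh.IsCoh G) (hF' : RefHull.GenInvertible F) (hG' : RefHull.GenInvertible G) :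
    cl δ a F - cl δ a G ∈ Fil δ a (a - 1) := by
  refine sub_mem_Fil_of_cls_eq (cycleHom_injective hδ ?_)
  rw [cycleHom_cls hδ a (cohLe_top hδ hη hF), cycleHom_cls hδ a (cohLe_top hδ hη hG)]
  funext x
  simp only [Cyc.sheafFun]
  split_ifs with hx
  · obtain rfl : x = genericPoint X := by
      by_contra hne
      have := (hδ _ x (genericPoint_specializes x) (Ne.symm hne)).1
      omega
    rw [length_genericPoint hF', length_genericPoint hG']
  · rfl

theorem nonneg_of_dim {k : Type u} [Field k] (f : X ⟶ Spec (CommRingCat.of k)) [LocallyOfFiniteType f]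
    (hδ : Cyc.IsDimFun X δ) {n : ℕ} (hn : topologicalKrullDim X = n) (hη : δ (genericPoint X) = n) (x : X) :
    0 ≤ δ x := by
  let d : X → ℤ := fun x => (DimLib.ptDim f x : ℤ)
  have hc : Cyc.DeltaCompat f d (fun _ => 0) := CycLib28.deltaCompat_ptDim_base f
  have hd : Cyc.IsDimFun X d := AlgSpLib.isDimFun_of_deltaCompat f (CycLib28.isSetup_specField k) hc
  have hs : Cyc.IsSetup X d := CycLib28.PB.isSetup_of_deltaCompat f (CycLib28.isSetup_specField k) hc
  have h1 := CycLib28.InterSheaf.dim_space f hs hc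
  rw [hn] at h1
  have h2 : (d (genericPoint X)).toNat = n := by exact_mod_cast h1.symm
  have h3 := AlgSpLib.cod_eq_dimFun hδ (genericPoint_specializes x)
  have h4 := AlgSpLib.cod_eq_dimFun hd (genericPoint_specializes x)
  have h5 : (0 : ℤ) ≤ d x := Int.natCast_nonneg _
  have h6 : d (genericPoint X) = n := by
    rw [← h2]; exact (Int.toNat_of_nonneg (Int.natCast_nonneg _)).symm
  omega

end Variety

end Groth.Agent.RefCh22
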