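import Groth.Agent.RefHullLib.DivSheaf
import Groth.Agent.RefHullLib.ClassLaw
import Groth.Agent.CAlgH3.InvertibleDivisor
import Groth.Agent.ModStalk.Exact
import Groth.Agent.RefCh22.K0Filt

/-!
# Stalks of the module of a Weil divisor, and morphisms between them
-/

set_option autoImplicit false
set_option linter.style.haveILetI false
set_option linter.unusedSectionVars false
set_option backward.isDefEq.respectTransparency.types false
universe u

open CategoryTheory CategoryTheory.Limits AlgebraicGeometry TopologicalSpace IsLocalRing Opposite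
open Groth.Agent.Coherent Groth.Agent.PicLib Groth.Agent.RefHullLib

namespace Groth.Agent.RefCh22

variable {X : Scheme.{u}} [IsIntegral X] [IsLocallyNoetherian X]

theorem ord_zpow' {x : X} (hx : Order.coheight x = 1) {φ : X.functionField} (hφ : φ ≠ 0) :
    ∀ n : ℤ, Scheme.ord (φ ^ n) x = n * Scheme.ord φ x := by
  have h1 : Scheme.ord (1 : X.functionField) x = 0 := (Scheme.ord_eq_iff hx one_ne_zero).2 (map_one _)
  have hp : ∀ q : ℕ, Scheme.ord (φ ^ q) x = (q : ℤ) * Scheme.ord φ x := fun q => by
    induction q with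
    | zero => rw [pow_zero, h1, Nat.cast_zero, zero_mul]
    | succ q ih => rw [pow_succ, Scheme.ord_mul (x := x) (pow_ne_zero q hφ) hφ, ih]; push_cast; ring
  rintro (n | n)
  · rw [Int.ofNat_eq_natCast, zpow_natCast]; exact hp n
  · have h := Scheme.ord_mul (x := x) (pow_ne_zero (n + 1) hφ) (inv_ne_zero (pow_ne_zero (n + 1) hφ))
    rw [mul_inv_cancel₀ (pow_ne_zero (n + 1) hφ), h1, hp (n + 1)] at h
    rw [zpow_negSucc]
    push_cast [Int.negSucc_eq] at *
    linarith

/-- membership in the lattice is a bound on the order -/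
theorem mem_lat (hX : Pi1.IsNormalScheme X) {y : X} (hy : Order.coheight y = 1) {n : ℤ} {z : X.functionField} :
    z ∈ lat y n ↔ z = 0 ∨ -n ≤ Scheme.ord z y := by
  rw [mem_lat_iff]
  constructor
  · rintro ⟨a, rfl⟩
    by_cases ha : a = 0
    · exact Or.inl (by rw [ha, map_zero, zero_mul])
    · right
      have ha' : algebraMap (X.presheaf.stalk y) X.functionField a ≠ 0 :=
        (map_ne_zero_iff _ (IsFractionRing.injective _ _)).2 ha
      rw [Scheme.ord_mul ha' (zpow_ne_zero _ (unif_ne_zero y)), ord_unif_zpow hX hy]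
      have := (CAlgH3.InvertibleDivisor.ord_nonneg hX hy a ha).1
      omega
  · rintro (rfl | h)
    · exact ⟨0, by rw [map_zero, zero_mul]⟩
    by_cases hz : z = 0
    · exact ⟨0, by rw [hz, map_zero, zero_mul]⟩
    have hne : z * unif y ^ n ≠ 0 := mul_ne_zero hz (zpow_ne_zero _ (unif_ne_zero y))
    obtain ⟨a, ha, -⟩ := CAlgH3.InvertibleDivisor.exists_of_ord_nonneg hX hy hne (by
      rw [Scheme.ord_mul hz (zpow_ne_zero _ (unif_ne_zero y)), ord_unif_zpow hX hy]; omega)
    exact ⟨a, by rw [ha, mul_assoc, ← zpow_add₀ (unif_ne_zero y), add_neg_cancel, zpow_zero, mul_one]⟩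

/-- a finitely supported divisor as a cycle -/
def toCyc (D : X →₀ ℤ) : AlgebraicCycle X ℤ :=
  ⟨⇑D, fun _ _ => Set.mem_univ _, fun _ _ => ⟨Set.univ, Filter.univ_mem,
    D.support.finite_toSet.subset fun _ hy => Finsupp.mem_support_iff.2 hy.2⟩⟩

/-- the module of a finitely supported divisor -/
noncomputable abbrev dm (D : X →₀ ℤ) : X.Modules := divMod ⇑(toCyc D)

theorem isCoh_dm (hX : Pi1.IsNormalScheme X) (D : X →₀ ℤ) : Coh.IsCoh (dm D) := isCoh_divMod hX (toCyc D)

variable {D E : X →₀ ℤ}

/-- the rational function of a germ -/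
noncomputable def stVal (x : X) (D : X →₀ ℤ) (v : (dm D).presheaf.stalk x) : X.functionField :=
  sval ((dm D).presheaf.exists_germ_eq v).choose_spec.choose_spec.choose x
    ((dm D).presheaf.exists_germ_eq v).choose_spec.choose

theorem stVal_germ {U : X.Opens} {x : X} (hx : x ∈ U) (s : Γ(dm D, U)) :
    stVal x D ((dm D).presheaf.germ U x hx s) = sval s x hx :=
  (germ_eq_iff ((dm D).presheaf.exists_germ_eq _).choose_spec.choose hx _ s).1
    ((dm D).presheaf.exists_germ_eq ((dm D).presheaf.germ U x hx s)).choose_spec.choose_spec.choose_spec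

theorem stVal_injective (x : X) : Function.Injective (stVal x D) := fun v w h => by
  obtain ⟨U, hU, s, rfl⟩ := (dm D).presheaf.exists_germ_eq v
  obtain ⟨V, hV, t, rfl⟩ := (dm D).presheaf.exists_germ_eq w
  rw [stVal_germ, stVal_germ] at h
  exact (germ_eq_iff hU hV s t).2 h

theorem stVal_add (x : X) (v w : (dm D).presheaf.stalk x) : stVal x D (v + w) = stVal x D v + stVal x D w := by
  obtain ⟨U, hU, s, rfl⟩ := (dm D).presheaf.exists_germ_eq v
  obtain ⟨V, hV, t, rfl⟩ := (dm D).presheaf.exists_germ_eq w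
  rw [← TopCat.Presheaf.germ_res_apply (dm D).presheaf (homOfLE (inf_le_left : U ⊓ V ≤ U)) x ⟨hU, hV⟩ s,
    ← TopCat.Presheaf.germ_res_apply (dm D).presheaf (homOfLE (inf_le_right : U ⊓ V ≤ V)) x ⟨hU, hV⟩ t,
    ← map_add, stVal_germ, stVal_germ, stVal_germ]
  rfl

theorem stVal_smul (x : X) (r : X.presheaf.stalk x) (v : (dm D).presheaf.stalk x) :
    stVal x D (r • v) = algebraMap (X.presheaf.stalk x) X.functionField r * stVal x D v := by
  obtain ⟨U, hU, a, rfl⟩ := X.presheaf.exists_germ_eq r
  obtain ⟨V, hV, s, rfl⟩ := (dm D).presheaf.exists_germ_eq v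
  rw [← TopCat.Presheaf.germ_res_apply X.presheaf (homOfLE (inf_le_left : U ⊓ V ≤ U)) x ⟨hU, hV⟩ a,
    ← TopCat.Presheaf.germ_res_apply (dm D).presheaf (homOfLE (inf_le_right : U ⊓ V ≤ V)) x ⟨hU, hV⟩ s,
    ← QCohLoc.germ_smul', stVal_germ, stVal_germ, sval_smul]

/-- the rational function of a germ, linearly -/
noncomputable def stValₗ (x : X) (D : X →₀ ℤ) :
    (dm D).presheaf.stalk x →ₗ[X.presheaf.stalk x] X.functionField where
  toFun := stVal x D
  map_add' := stVal_add x
  map_smul' r v := by rw [RingHom.id_apply, stVal_smul, Algebra.smul_def]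

/-- which functions are germs -/
theorem mem_range_stVal {x : X} {z : X.functionField} :
    z ∈ Set.range (stVal x D) ↔ ∀ y : X, y ⤳ x → Order.coheight y = 1 → z ∈ lat y (D y) := by
  constructor
  · rintro ⟨v, rfl⟩ y hy hy1
    obtain ⟨U, hU, s, rfl⟩ := (dm D).presheaf.exists_germ_eq v
    rw [stVal_germ, sval_eq s hU (hy.mem_open U.isOpen hU)]
    exact sval_mem s (hy.mem_open U.isOpen hU) hy1
  · intro h
    obtain ⟨_, ⟨V, hV, rfl⟩, hxV, -⟩ :=
      X.isBasis_affineOpens.exists_subset_of_mem_open (Set.mem_univ x) isOpen_univ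
    have hB := finite_bad (toCyc D) z hV
    let C : Set X := ⋃ y ∈ hB.toFinset, closure ({y} : Set X)
    have hC : IsClosed C := Set.Finite.isClosed_biUnion (Finset.finite_toSet _) fun _ _ => isClosed_closure
    let W : X.Opens := V ⊓ ⟨Cᶜ, hC.isOpen_compl⟩
    have hxW : x ∈ W := ⟨hxV, fun hh => by
      obtain ⟨y, hy, hyx⟩ := Set.mem_iUnion₂.1 hh
      obtain ⟨-, hy1, hyv⟩ := hB.mem_toFinset.1 hy
      exact hyv (h y (specializes_iff_mem_closure.2 hyx) hy1)⟩
    obtain ⟨s, hs⟩ := exists_sec (D := ⇑(toCyc D)) (U := W) z (fun y hy hy1 => by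
      by_contra hyv
      exact hy.2 (Set.mem_iUnion₂.2 ⟨y, hB.mem_toFinset.2 ⟨hy.1, hy1, hyv⟩, subset_closure rfl⟩))
    exact ⟨_, (stVal_germ hxW s).trans (hs x hxW)⟩

theorem lat_mono (hX : Pi1.IsNormalScheme X) {y : X} (hy : Order.coheight y = 1) {m n : ℤ} (h : m ≤ n)
    {z : X.functionField} (hz : z ∈ lat y m) : z ∈ lat y n :=
  (mem_lat hX hy).2 (((mem_lat hX hy).1 hz).imp_right fun h' => by omega)

/-- the inclusion of the modules of comparable divisors -/
noncomputable def incl (hX : Pi1.IsNormalScheme X) (h : ∀ y, D y ≤ E y) : dm D ⟶ dm E :=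
  let g : ∀ U : X.Opens, Γ(dm D, U) →+ Γ(dm E, U) := fun U =>
    AddMonoidHom.mk' (fun s => (show Γ(dm E, U) from
      ⟨s.1, s.2.1, fun y hy => lat_mono hX hy (h y.1) (s.2.2 y hy)⟩)) fun _ _ => rfl
  ⟨PresheafOfModules.homMk
    { app := fun U => AddCommGrpCat.ofHom (g U.unop)
      naturality := fun _ _ _ => ConcreteCategory.hom_ext _ _ fun _ => rfl }
    (fun _ _ _ => rfl)⟩

theorem stVal_incl (hX : Pi1.IsNormalScheme X) (h : ∀ y, D y ≤ E y) (x : X) (v : (dm D).presheaf.stalk x) :
    stVal x E (RefHull.stalkMapₗ (incl hX h) x v) = stVal x D v := by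
  obtain ⟨U, hU, s, rfl⟩ := (dm D).presheaf.exists_germ_eq v
  rw [RefHull.stalkMapₗ_germ, stVal_germ, stVal_germ]
  rfl

instance mono_incl (hX : Pi1.IsNormalScheme X) (h : ∀ y, D y ≤ E y) : Mono (incl hX h) :=
  OmegaLib.mono_of_stalks_injective _ fun x v w e => stVal_injective x (by
    rw [← stVal_incl hX h, ← stVal_incl hX h]
    exact congrArg _ e)

/-- every rank one reflexive module is the module of its divisor -/
theorem nonempty_iso_dm (hX : Pi1.IsNormalScheme X) {F : X.Modules} (hF : RefHull.IsRef1 F)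
    {s : F.presheaf.stalk (genericPoint X)} (hs : s ≠ 0)
    (h : ∀ y : X, Order.coheight y = 1 → D y = sOrd F y s) : Nonempty (dm D ≅ F) := by
  have hrefl := (isReflexive_iff_stalks hF.1).1 hF.2.1
  let η := genericPoint X
  have hηK : ∀ a : X.presheaf.stalk η, toGenRing η a = (a : X.functionField) := fun a => by
    exact DFunLike.congr_fun (congrArg CommRingCat.Hom.hom (X.presheaf.stalkSpecializes_refl η)) a
  let T : RefHull.StalkHom (dm D) F η :=
    { toFun := fun v => (show X.presheaf.stalk η from stVal η D v) • s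
      map_add' := fun v w => by rw [stVal_add]; exact add_smul _ _ _
      map_smul' := fun r v => by
        rw [RingHom.id_apply, stVal_smul]
        refine Eq.trans ?_ (mul_smul r (show X.presheaf.stalk η from stVal η D v) s)
        exact congrArg (fun c : X.functionField => (show X.presheaf.stalk η from c * stVal η D v) • s) (hηK r) }
  have hTy : ∀ (y : X) (v : (dm D).presheaf.stalk y), stVal η D (toGen (dm D) y v) = stVal y D v := fun y v => by
    obtain ⟨U, hU, t, rfl⟩ := (dm D).presheaf.exists_germ_eq v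
    rw [toGen_germ, stVal_germ, stVal_germ]
    exact sval_eq t _ _
  obtain ⟨α, hα⟩ := exists_hom_of_genericMap hX hF.1 hrefl T fun y hy v => by
    have hy1 := (ringKrullDim_eq_one_iff_coheight y).1 hy
    show (show X.presheaf.stalk η from stVal η D (toGen (dm D) y v)) • s ∈ _
    rw [hTy]
    obtain ⟨t, ht⟩ := exists_gen_codimOne hX hF hy.le
    obtain ⟨φ, hφ0, hφ⟩ := exists_coord hF.1.1 ht hs
    have hlat := mem_range_stVal.1 ⟨v, rfl⟩ y specializes_rfl hy1
    rw [h y hy1, sOrd_eq hF.1.1 hy1 ht φ s hφ] at hlat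
    obtain h0 | h0 := (mem_lat hX hy1).1 hlat
    · rw [h0]
      exact ⟨0, by rw [map_zero]; exact (zero_smul _ _).symm⟩
    by_cases hz : stVal y D v = 0
    · rw [hz]
      exact ⟨0, by rw [map_zero]; exact (zero_smul _ _).symm⟩
    obtain ⟨a, ha, -⟩ := CAlgH3.InvertibleDivisor.exists_of_ord_nonneg hX hy1
      (mul_ne_zero hz hφ0) (by rw [Scheme.ord_mul hz hφ0]; omega)
    refine ⟨a • t, ?_⟩
    rw [toGen_smul, ← hφ]
    refine Eq.trans ?_ (mul_smul (stVal y D v : X.functionField) φ (toGen F y t))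
    exact congrArg (fun c : X.functionField => c • toGen F y t) ha
  have key : ∀ (x : X) (v : (dm D).presheaf.stalk x),
      toGen F x (RefHull.stalkMapₗ α x v) = (show X.presheaf.stalk η from stVal x D v) • s := fun x v => by
    rw [toGen_stalkMap, hα]
    show (show X.presheaf.stalk η from stVal η D (toGen (dm D) x v)) • s = _
    rw [hTy]
  obtain ⟨f, hf0, hf⟩ := exists_ne_zero_genericPoint hF.2.2
  have hsb : Function.Bijective fun c : X.functionField => c • s := by
    obtain ⟨c, hc⟩ := hf.2 s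
    dsimp only at hc
    have hc0 : c ≠ 0 := fun e => hs (by rw [← hc, e]; exact zero_smul _ _)
    have : (fun a : X.functionField => a • s) = (fun a : X.functionField => a • f) ∘ (fun a => a * c) :=
      funext fun a => by rw [Function.comp_apply, ← hc, mul_smul]
    rw [this]
    exact hf.comp (mulRight_bijective₀ c hc0)
  have hb : ∀ x, Function.Bijective (RefHull.stalkMapₗ α x) := fun x => by
    haveI := AssSch12.finite_stalk hF.1 x
    haveI : Module.IsReflexive (X.presheaf.stalk x) (F.presheaf.stalk x) := hrefl x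
    have hinj := toGen_injective F hF.1.1 x inferInstance
    refine ⟨fun v w e => stVal_injective x (hsb.1 ?_), fun w => ?_⟩
    · have e' := congrArg (toGen F x) e
      rw [key, key] at e'
      exact e'
    · obtain ⟨c, hc⟩ := hsb.2 (toGen F x w)
      obtain ⟨v, hv⟩ : c ∈ Set.range (stVal x D) := mem_range_stVal.2 fun y hy hy1 => by
        by_cases hc0 : c = 0
        · rw [hc0]; exact zero_mem _
        obtain ⟨t, ht⟩ := exists_gen_codimOne hX hF ((ringKrullDim_eq_one_iff_coheight y).2 hy1).le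
        obtain ⟨φ, hφ0, hφ⟩ := exists_coord hF.1.1 ht hs
        obtain ⟨a, ha⟩ := ht.2 (F.presheaf.stalkSpecializes hy w)
        dsimp only at ha
        have e1 : toGen F y (F.presheaf.stalkSpecializes hy w) = toGen F x w := by
          obtain ⟨U, hU, m, rfl⟩ := F.presheaf.exists_germ_eq w
          rw [TopCat.Presheaf.germ_stalkSpecializes_apply, toGen_germ, toGen_germ]
        rw [← ha, toGen_smul] at e1
        have e2 : (c * φ) • toGen F y t = (toGenRing y a : X.functionField) • toGen F y t := by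
          refine (mul_smul c φ _).trans ?_
          rw [hφ]
          exact hc.trans e1.symm
        have e3 : c * φ = toGenRing y a := by
          have hgt : toGen F y t ≠ 0 := fun h0 => hs (by rw [← hφ, h0]; exact smul_zero _)
          obtain ⟨p, hp⟩ := hf.2 (toGen F y t)
          dsimp only at hp
          have hp0 : p ≠ 0 := fun h0 => hgt (by rw [← hp, h0]; exact zero_smul _ _)
          rw [← hp, ← mul_smul, ← mul_smul] at e2
          exact mul_right_cancel₀ hp0 (hf.1 e2)
        rw [mem_lat hX hy1, h y hy1, sOrd_eq hF.1.1 hy1 ht φ s hφ]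
        right
        have ha0 : a ≠ 0 := fun h0 => mul_ne_zero hc0 hφ0 (by rw [e3, h0, map_zero])
        have := (CAlgH3.InvertibleDivisor.ord_nonneg hX hy1 a ha0).1
        rw [show algebraMap (X.presheaf.stalk y) X.functionField a = toGenRing y a from rfl, ← e3,
          Scheme.ord_mul hc0 hφ0] at this
        omega
      refine ⟨v, hinj ?_⟩
      rw [key, hv]
      exact hc
  haveI : IsIso α := ModStalk.isIso_of_stalks _ fun x => (ConcreteCategory.isIso_iff_bijective _).2 (hb x)
  exact ⟨asIso α⟩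

end Groth.Agent.RefCh22
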