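import Groth.Agent.RefCh22.Ops
import Groth.Agent.Coherent.RpushSupport
import Groth.Agent.ModStalk.Pullback
import Groth.Agent.PicLib.PullbackGen
import Groth.Prelude.Def_Frob

/-!
# The Frobenius pullback of a rank one reflexive module
-/

set_option autoImplicit false
set_option linter.style.haveILetI false
set_option linter.unusedSectionVars false
set_option backward.isDefEq.respectTransparency.types false
universe u

open CategoryTheory CategoryTheory.Limits AlgebraicGeometry Opposite TopologicalSpace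
open Groth.Agent.Coherent Groth.Agent.PicLib Groth.Agent.RefHullLib
open scoped TensorProduct

namespace Groth.Agent.RefCh22

theorem exists_stalk_pullback_gen {X Y : Scheme.{u}} (f : X ⟶ Y) {F : Y.Modules} (x : X)
    {t : F.presheaf.stalk (f x)} (ht : Function.Bijective fun r : Y.presheaf.stalk (f x) => r • t) :
    ∃ n : ((Scheme.Modules.pullback f).obj F).presheaf.stalk x,
      Function.Bijective fun r : X.presheaf.stalk x => r • n := by
  letI : Algebra (Y.presheaf.stalk (f x)) (X.presheaf.stalk x) := (f.stalkMap x).hom.toAlgebra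
  let M := (DerSch.stalkFunctor Y (f x)).obj F
  let R' := Y.presheaf.stalk (f x)
  let e₀ : R' ≃ₗ[R'] M := LinearEquiv.ofBijective (LinearMap.toSpanSingleton R' M t) ht
  let i := (Groth.Agent.ModStalk.pullbackStalkIso f x).app F ≪≫
    (ModuleCat.extendScalars (f.stalkMap x).hom).mapIso (LinearEquiv.toModuleIso e₀).symm
  let e : (DerSch.stalkFunctor X x).obj ((Scheme.Modules.pullback f).obj F) ≃ₗ[X.presheaf.stalk x] X.presheaf.stalk x :=
    i.toLinearEquiv.trans (TensorProduct.AlgebraTensorModule.rid R' (X.presheaf.stalk x) (X.presheaf.stalk x))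
  refine ⟨e.symm 1, ?_⟩
  have : (fun r : X.presheaf.stalk x => r • e.symm 1) = e.symm :=
    funext fun r => (map_smul e.symm r 1).symm.trans (congrArg _ (mul_one r))
  exact (congrArg Function.Bijective this).mpr e.symm.bijective

/-- pullback of a generator generates the stalks -/
theorem bijective_smul_germ_pullSec {X Y : Scheme.{u}} (f : X ⟶ Y) {F : Y.Modules} {U : Y.Opens} {g : Γ(F, U)}
    (hg : IsGen F U g) (x : X) (hx : f x ∈ U) :
    Function.Bijective fun r : X.presheaf.stalk x =>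
      r • ((Scheme.Modules.pullback f).obj F).presheaf.germ (f ⁻¹ᵁ U) x hx (pullSec f g) := by
  let G := (Scheme.Modules.pullback f).obj F
  obtain ⟨n, hn⟩ := exists_stalk_pullback_gen f x (SDiv28.bijective_smul_germ_gen hg hx)
  obtain ⟨c, hc⟩ := hn.2 (G.presheaf.germ (f ⁻¹ᵁ U) x hx (pullSec f g))
  dsimp only at hc
  obtain ⟨V₁, h₁, z, rfl⟩ := G.presheaf.exists_germ_eq n
  obtain ⟨V₂, h₂, b, rfl⟩ := X.presheaf.exists_germ_eq c
  have heq : G.presheaf.germ (V₁ ⊓ V₂) x ⟨h₁, h₂⟩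
      (res (inf_le_right : V₁ ⊓ V₂ ≤ V₂) b • resM G (inf_le_left : V₁ ⊓ V₂ ≤ V₁) z) =
      G.presheaf.germ (f ⁻¹ᵁ U) x hx (pullSec f g) := by
    rw [← hc]
    refine (QCohLoc.germ_smul' (M := G) (V := V₁ ⊓ V₂) (x := x) ⟨h₁, h₂⟩ _ _).trans ?_
    congr 1
    · exact TopCat.Presheaf.germ_res_apply X.presheaf _ _ _ _
    · exact TopCat.Presheaf.germ_res_apply G.presheaf _ _ _ _
  obtain ⟨W, hxW, i, j, hW⟩ := G.presheaf.germ_eq x _ _ _ _ heq
  have hle : W ≤ f ⁻¹ᵁ U := j.le
  have hu : IsUnit (res (i.le.trans inf_le_right) b) :=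
    isUnit_of_pullSec_eq_smul f hg hle (z := resM G (i.le.trans inf_le_left) z) (by
      refine hW.symm.trans ?_
      show resM G i.le (_ • resM G _ z) = _
      rw [resM_smul, resM_resM, PicLib.res_res])
  have hu' : IsUnit (X.presheaf.germ V₂ x h₂ b) := by
    have h := hu.map (X.presheaf.germ W x hxW).hom
    rwa [show X.presheaf.germ W x hxW (res (i.le.trans inf_le_right) b) = X.presheaf.germ V₂ x h₂ b from
      TopCat.Presheaf.germ_res_apply X.presheaf _ _ _ _] at h
  obtain ⟨v, hv⟩ := hu'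
  rw [← hc, ← hv]
  have : (fun r : X.presheaf.stalk x => r • ((v : X.presheaf.stalk x) • G.presheaf.germ V₁ x h₁ z)) =
      (fun r : X.presheaf.stalk x => r • G.presheaf.germ V₁ x h₁ z) ∘ fun r => r * (v : X.presheaf.stalk x) :=
    funext fun r => (mul_smul r _ _).symm
  rw [this]
  exact hn.comp v.mulRight.bijective

variable {X : Scheme.{u}} [IsIntegral X] [IsLocallyNoetherian X] {F : X.Modules}

theorem ord_pow {x : X} (hx : Order.coheight x = 1) {φ : X.functionField} (hφ : φ ≠ 0) :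
    ∀ q : ℕ, Scheme.ord (φ ^ q) x = (q : ℤ) * Scheme.ord φ x
  | 0 => by rw [pow_zero, Nat.cast_zero, zero_mul]; exact (Scheme.ord_eq_iff hx one_ne_zero).2 (map_one _)
  | q + 1 => by rw [pow_succ, Scheme.ord_mul (x := x) (pow_ne_zero q hφ) hφ, ord_pow hx hφ q]; push_cast; ring

/-- the hull of the Frobenius pullback is the `p`th reflexive power -/
theorem ddual_frob_pullback_iso (hX : Pi1.IsNormalScheme X) (p : ℕ) [Fact p.Prime] [FrobSch.IsCharP X p]
    (hF : RefHull.IsRef1 F) :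
    Nonempty (RefHull.ddual ((Scheme.Modules.pullback (FrobSch.frob X p)).obj F) ≅ RefPow.refPow F p) := by
  let σ := FrobSch.frob X p
  let G := (Scheme.Modules.pullback σ).obj F
  have hG : Coh.IsCoh G := ZClosLib.isCoh_pullback σ F hF.1
  obtain ⟨U₀, hη₀, g₀, hg₀⟩ := exists_gen_genericPoint hF.2.2
  have hs₀ := SDiv28.bijective_smul_germ_gen hg₀ hη₀
  let s := F.presheaf.germ U₀ _ hη₀ g₀
  have hs : s ≠ 0 := fun h => one_ne_zero (α := X.functionField) (hs₀.1 (by
    show _ • s = _ • s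
    rw [h, smul_zero, smul_zero]))
  have hη₀' : genericPoint X ∈ σ ⁻¹ᵁ U₀ := hη₀
  have hη := bijective_stalk_bidualMap_genericPoint hG
  have hw₀ := bijective_smul_map hη (bijective_smul_germ_pullSec σ hg₀ (genericPoint X) hη₀)
  let w := RefHull.stalkMapₗ (RefHull.bidualMap G) (genericPoint X) (G.presheaf.germ (σ ⁻¹ᵁ U₀) _ hη₀' (pullSec σ g₀))
  have hw : w ≠ 0 := fun h => one_ne_zero (α := X.functionField) (hw₀.1 (by
    show _ • w = _ • w
    rw [h, smul_zero, smul_zero]))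
  have hR : RefHull.IsRef1 (RefHull.ddual G) :=
    ⟨isCoh_ddual hG, isReflexive_ddual hG, genInvertible_of_bijective_genericPoint (isCoh_ddual hG) w hw₀⟩
  obtain ⟨v, hv, hvo⟩ := exists_refPow_section hX hF hs p
  refine nonempty_iso_of_isDiv hX hR (RefPowLib.isRef1_refPow hF p) hw hv fun x hx => ?_
  rw [hvo x hx]
  obtain ⟨t, ht⟩ := exists_gen_codimOne hX hF ((ringKrullDim_eq_one_iff_coheight x).2 hx).le
  obtain ⟨U, hxU, g, hg, rfl⟩ := exists_isGen_near hF.1 t ht
  have hηU : genericPoint X ∈ U := genericPoint_mem_of_mem hxU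
  obtain ⟨r, hr⟩ := (hg (U₀ ⊓ U) inf_le_right).2 (resM F inf_le_left g₀)
  dsimp only at hr
  let φ : X.functionField := X.presheaf.germ (U₀ ⊓ U) (genericPoint X) ⟨hη₀, hηU⟩ r
  have hφ : φ • toGen F x (F.presheaf.germ U x hxU g) = s := by
    rw [toGen_germ]
    show φ • F.presheaf.germ U _ hηU g = F.presheaf.germ U₀ _ hη₀ g₀
    refine Eq.trans ?_ ((TopCat.Presheaf.germ_res_apply F.presheaf (homOfLE (inf_le_left : U₀ ⊓ U ≤ U₀)) _
      ⟨hη₀, hηU⟩ g₀).trans rfl)
    refine Eq.trans ?_ (congrArg (F.presheaf.germ (U₀ ⊓ U) _ ⟨hη₀, hηU⟩) hr)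
    refine Eq.trans ?_ (QCohLoc.germ_smul' (M := F) (V := U₀ ⊓ U) (x := genericPoint X) ⟨hη₀, hηU⟩ r _).symm
    exact congrArg (φ • ·) (TopCat.Presheaf.germ_res_apply F.presheaf _ _ _ _).symm
  have hφ0 : φ ≠ 0 := fun h => hs (by rw [← hφ, h]; exact zero_smul _ _)
  have hb := bijective_smul_germ_pullSec σ hg x hxU
  have hz := bijective_smul_map ((bijective_stalk_bidualMap_iff hG x).2 (isReflexiveAt_of_gen hb)) hb
  have key : (φ ^ p) • toGen G x (G.presheaf.germ (σ ⁻¹ᵁ U) x hxU (pullSec σ g)) =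
      G.presheaf.germ (σ ⁻¹ᵁ U₀) _ hη₀' (pullSec σ g₀) := by
    rw [toGen_germ]
    have h := congrArg (pullSec σ) hr
    rw [pullSec_smul, ← resM_pullSec, ← resM_pullSec] at h
    have h' := congrArg (G.presheaf.germ (σ ⁻¹ᵁ (U₀ ⊓ U)) (genericPoint X) ⟨hη₀, hηU⟩) h
    refine Eq.trans ?_ (h'.trans (TopCat.Presheaf.germ_res_apply G.presheaf _ _ _ _))
    refine Eq.trans ?_ (QCohLoc.germ_smul' (M := G) (V := σ ⁻¹ᵁ (U₀ ⊓ U)) (x := genericPoint X) ⟨hη₀, hηU⟩ _ _).symm
    congr 1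
    · show φ ^ p = X.presheaf.germ (U₀ ⊓ U) (genericPoint X) ⟨hη₀, hηU⟩ (r ^ p)
      rw [map_pow]
    · exact (TopCat.Presheaf.germ_res_apply G.presheaf _ _ _ _).symm
  rw [sOrd_eq hR.1.1 hx hz (φ ^ p) w (by rw [toGen_stalkMap, ← map_smul, key]),
    sOrd_eq hF.1.1 hx ht φ s hφ]
  exact ord_pow hx hφ0 p

end Groth.Agent.RefCh22

namespace Groth.Agent.RefCh22

variable {X : Scheme.{u}} [IsIntegral X] [IsLocallyNoetherian X] {F F' : X.Modules}

theorem isRef1_of_iso (e : F ≅ F') (hF : RefHull.IsRef1 F) : RefHull.IsRef1 F' := by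
  have hc := Coherent.isCoh_of_iso e hF.1
  obtain ⟨f, hf0, hf⟩ := exists_ne_zero_genericPoint hF.2.2
  refine ⟨hc, (isReflexive_iff_stalks hc).2 fun x => ?_,
    genInvertible_of_bijective_genericPoint hc _ (bijective_smul_map (stalkMap_iso_bijective e (genericPoint X)) hf)⟩
  haveI : Module.IsReflexive (X.presheaf.stalk x) (F.presheaf.stalk x) := (isReflexive_iff_stalks hF.1).1 hF.2.1 x
  exact Module.IsReflexive.of_split
    (LinearEquiv.ofBijective (RefHull.stalkMapₗ e.hom x) (stalkMap_iso_bijective e x)).symm.toLinearMap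
    (RefHull.stalkMapₗ e.hom x)
    (LinearMap.ext fun v => (LinearEquiv.ofBijective _ (stalkMap_iso_bijective e x)).apply_symm_apply v)

theorem refPow_congr (hX : Pi1.IsNormalScheme X) (e : F ≅ F') (hF : RefHull.IsRef1 F) (m : ℕ) :
    Nonempty (RefPow.refPow F m ≅ RefPow.refPow F' m) := by
  have hF' := isRef1_of_iso e hF
  obtain ⟨s, hs, -⟩ := exists_ne_zero_genericPoint hF.2.2
  have hs' : RefHull.stalkMapₗ e.hom (genericPoint X) s ≠ 0 := fun h =>
    hs ((stalkMap_iso_bijective e _).1 (h.trans (map_zero _).symm))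
  obtain ⟨a, ha, oa⟩ := exists_refPow_section hX hF hs m
  obtain ⟨b, hb, ob⟩ := exists_refPow_section hX hF' hs' m
  refine nonempty_iso_of_isDiv hX (RefPowLib.isRef1_refPow hF m) (RefPowLib.isRef1_refPow hF' m) ha hb fun x hx => ?_
  obtain ⟨t, ht⟩ := exists_gen_codimOne hX hF ((ringKrullDim_eq_one_iff_coheight x).2 hx).le
  rw [oa x hx, ob x hx, sOrd_iso e hF.1.1 hF'.1.1 hx ht hs]

theorem refPow_refPow (hX : Pi1.IsNormalScheme X) (hF : RefHull.IsRef1 F) (m n : ℕ) :
    Nonempty (RefPow.refPow (RefPow.refPow F m) n ≅ RefPow.refPow F (m * n)) := by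
  obtain ⟨s, hs, -⟩ := exists_ne_zero_genericPoint hF.2.2
  obtain ⟨a, ha, oa⟩ := exists_refPow_section hX hF hs m
  obtain ⟨b, hb, ob⟩ := exists_refPow_section hX (RefPowLib.isRef1_refPow hF m) ha n
  obtain ⟨c, hc, oc⟩ := exists_refPow_section hX hF hs (m * n)
  exact nonempty_iso_of_isDiv hX (RefPowLib.isRef1_refPow (RefPowLib.isRef1_refPow hF m) n)
    (RefPowLib.isRef1_refPow hF _) hb hc fun x hx => by
      rw [ob x hx, oa x hx, oc x hx, Nat.cast_mul]; ring

end Groth.Agent.RefCh22
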