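import Groth.Agent.RefCh22.Bilinear
import Groth.Agent.EulerLib.FGABridge
import Groth.Agent.EulerLib.DegClass
import Groth.Agent.EulerLib.Additive
import Groth.Agent.RefPowLib.Basic

/-!
# Intersection numbers through the twist operators
-/

set_option autoImplicit false
set_option linter.style.haveILetI false
set_option linter.unusedSectionVars false
set_option backward.isDefEq.respectTransparency.types false
universe u

open CategoryTheory CategoryTheory.Limits AlgebraicGeometry

namespace Groth.Agent.RefCh22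

open CycLib28.K0 EulerLib

variable (k : Type u) [Field k] {X : Scheme.{u}} [X.Over (Spec (CommRingCat.of k))]
  [IsProper (X ↘ Spec (CommRingCat.of k))] [IsLocallyNoetherian X] {δ : X → ℤ} {a : ℤ}

variable (δ a) in
/-- the Euler characteristic on the Grothendieck group -/
noncomputable def chi : K δ a →+ ℤ :=
  QuotientAddGroup.lift _
    (FreeAbelianGroup.lift fun F => chiCl k F.1 (InvCl.mk (Coh.structureModule X) AmpleLib.isInvertible_structureModule)) (by
    rw [KZero.relSub, AddSubgroup.closure_le]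
    rintro x ⟨S, h₁, h₂, h₃, hS, rfl⟩
    rw [SetLike.mem_coe, AddMonoidHom.mem_ker, map_sub, map_sub, FreeAbelianGroup.lift_apply_of,
      FreeAbelianGroup.lift_apply_of, FreeAbelianGroup.lift_apply_of,
      chiCl_additive k S hS h₁.1 h₂.1 h₃.1, Pi.add_apply]
    abel)

theorem chi_cl {F : X.Modules} (hF : Cyc.CohLe δ a F) : chi k δ a (cl δ a F) = Curv2.euler k X F := by
  rw [cl_def hF]
  refine (FreeAbelianGroup.lift_apply_of (fun F : Subtype (Cyc.CohLe δ a) =>
    chiCl k F.1 (InvCl.mk (Coh.structureModule X) AmpleLib.isInvertible_structureModule)) ⟨F, hF⟩).trans ?_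
  rw [chiCl_mk]
  exact euler_congr k X (AmpleLib.tensorComm F _ ≪≫ AmpleLib.unitTensorIso F)

theorem intNum_eq [IsIntegral X] (hδ : Cyc.IsDimFun X δ) (hη : δ (genericPoint X) = a) {d : ℕ}
    (hd : topologicalKrullDim X ≤ d) {r : ℕ} {M : Fin r → X.Modules} (hM : ∀ i, PicF.IsInvertible (M i))
    {F : X.Modules} (hF : Coh.IsCoh F) :
    FGA.intNum k X d M F = chi k δ a ((∏ i, (1 - t δ a (hM i))).1 (cl δ a F)) := by
  rw [← sum_subsets hM (cohLe_top hδ hη hF), map_sum]
  refine Finset.sum_congr rfl fun I _ => ?_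
  obtain ⟨h, -⟩ := t_list (δ := δ) (a := a) hM (I.sort (· ≤ ·))
  have hC := RefHullLib.isCoh_tensorMod (PicLib.isCoh_of_isInvertible h) hF
  rw [map_zsmul, chi_cl k (cohLe_top hδ hη hC), eulerCharLE_eq k _ hC.1 hd, smul_eq_mul]

/-- reflexive powers are linear modulo codimension two -/
theorem refPow_mem_Fil [IsIntegral X] (hX : Pi1.IsNormalScheme X) (hδ : Cyc.IsDimFun X δ)
    (hη : δ (genericPoint X) = a) {F : X.Modules} (hF : RefHull.IsRef1 F) : ∀ m : ℕ,
    cl δ a (RefPow.refPow F m) - cl δ a (Coh.structureModule X) -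
      (m : ℤ) • (cl δ a F - cl δ a (Coh.structureModule X)) ∈ Fil δ a (a - 2)
  | 0 => by
    rw [RefPow.refPow_zero, Nat.cast_zero, zero_smul, sub_self, sub_zero]
    exact zero_mem _
  | 1 => by
    rw [show RefPow.refPow F 1 = F from rfl, Nat.cast_one, one_smul, sub_self]
    exact zero_mem _
  | n + 2 => by
    have h1 := refPow_mem_Fil hX hδ hη hF (n + 1)
    have h2 := refTensor_mem_Fil hX hδ hη (RefPowLib.isRef1_refPow hF (n + 1)) hF
    have h3 := add_mem h1 h2
    rw [show RefPow.refPow F (n + 2) = RefPow.refTensor (RefPow.refPow F (n + 1)) F from rfl]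
    convert h3 using 1
    push_cast
    simp only [add_smul, one_smul, two_smul, show (2 : ℤ) = 1 + 1 from rfl]
    abel

end Groth.Agent.RefCh22
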