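import Mathlib

/-!
# Lattices in the fraction field of a one-dimensional image, and their indices

`R → κ` has image a domain `O` with fraction field `κ` and all `R ⧸ (ker + (a))` of finite length for `a`
mapping to a nonzero element.  A lattice is a finitely generated nonzero `R`-submodule of `κ`.
-/

set_option autoImplicit false
set_option linter.style.haveILetI false
set_option linter.unusedSectionVars false
universe u

namespace Groth.Agent.RefCh22

variable {R κ : Type u} [CommRing R] [IsNoetherianRing R] [Field κ] [Algebra R κ]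

/-- the hypotheses on `R → κ` -/
structure CurveLike (R κ : Type u) [CommRing R] [Field κ] [Algebra R κ] : Prop where
  frac : ∀ c : κ, ∃ a b : R, algebraMap R κ b ≠ 0 ∧ c * algebraMap R κ b = algebraMap R κ a
  artin : ∀ a : R, algebraMap R κ a ≠ 0 → IsFiniteLength R (R ⧸ (RingHom.ker (algebraMap R κ) ⊔ Ideal.span {a}))

/-- lattices -/
def IsLat (Λ : Submodule R κ) : Prop := Λ.FG ∧ Λ ≠ ⊥

variable (R κ) in
/-- the image of `R` -/
noncomputable def base : Submodule R κ := LinearMap.range (Algebra.linearMap R κ)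

theorem mem_base {z : κ} : z ∈ base R κ ↔ ∃ a : R, algebraMap R κ a = z := Iff.rfl

theorem one_mem_base : (1 : κ) ∈ base R κ := ⟨1, map_one (algebraMap R κ)⟩

theorem isLat_base : IsLat (base R κ) :=
  ⟨by rw [base, LinearMap.range_eq_map]; exact Module.Finite.fg_top.map _,
    fun h => one_ne_zero (α := κ) ((Submodule.mem_bot R).1 (h ▸ one_mem_base))⟩

/-- multiplication by `u` -/
noncomputable def scale (u : κ) (Λ : Submodule R κ) : Submodule R κ := Λ.map (LinearMap.mulLeft R u)

theorem mem_scale {u z : κ} {Λ : Submodule R κ} : z ∈ scale u Λ ↔ ∃ w ∈ Λ, u * w = z := Iff.rfl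

theorem IsLat.scale {u : κ} (hu : u ≠ 0) {Λ : Submodule R κ} (h : IsLat Λ) : IsLat (scale u Λ) := by
  refine ⟨h.1.map _, fun he => h.2 ((Submodule.eq_bot_iff _).2 fun z hz => ?_)⟩
  have : u * z ∈ RefCh22.scale u Λ := ⟨z, hz, rfl⟩
  rw [he, Submodule.mem_bot, mul_eq_zero] at this
  exact this.resolve_left hu

theorem IsLat.exists_ne_zero {Λ : Submodule R κ} (h : IsLat Λ) : ∃ z ∈ Λ, z ≠ 0 := by
  obtain ⟨z, hz, hz0⟩ := Submodule.exists_mem_ne_zero_of_ne_bot h.2
  exact ⟨z, hz, hz0⟩

variable (hc : CurveLike R κ)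
include hc

/-- common denominators -/
theorem exists_smul_le {Λ Λ' : Submodule R κ} (h : IsLat Λ) (h' : IsLat Λ') :
    ∃ a : R, algebraMap R κ a ≠ 0 ∧ ∀ z ∈ Λ, a • z ∈ Λ' := by
  classical
  obtain ⟨w, hw, hw0⟩ := h'.exists_ne_zero
  obtain ⟨t, rfl⟩ := h.1
  induction t using Finset.induction with
  | empty => exact absurd (by simp) h.2
  | @insert c t _ _ =>
    clear h
    have key : ∀ s : Finset κ, ∃ a : R, algebraMap R κ a ≠ 0 ∧ ∀ z ∈ s, a • z ∈ Λ' := by
      intro s
      induction s using Finset.induction with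
      | empty => exact ⟨1, by rw [map_one]; exact one_ne_zero, by simp⟩
      | @insert d s _ ih =>
        obtain ⟨a, ha, haz⟩ := ih
        obtain ⟨x, y, hy, hxy⟩ := hc.frac (d / w)
        refine ⟨a * y, by rw [map_mul]; exact mul_ne_zero ha hy, fun z hz => ?_⟩
        rcases Finset.mem_insert.1 hz with rfl | hz
        · have : (a * y) • z = (a * x) • w := by
            rw [Algebra.smul_def, Algebra.smul_def, map_mul, map_mul, ← hxy]
            field_simp
          rw [this]
          exact Λ'.smul_mem _ hw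
        · rw [mul_comm, mul_smul]
          exact Λ'.smul_mem _ (haz z hz)
    obtain ⟨a, ha, haz⟩ := key (insert c t)
    refine ⟨a, ha, fun z hz => ?_⟩
    exact (Submodule.span_le (p := Λ'.comap (a • LinearMap.id)).2 fun v hv => (show (a • LinearMap.id (R := R) (M := κ)) v ∈ Λ' from haz v hv)) hz

theorem isLat_inf {Λ Λ' : Submodule R κ} (h : IsLat Λ) (h' : IsLat Λ') : IsLat (Λ ⊓ Λ') := by
  obtain ⟨a, ha, haz⟩ := exists_smul_le hc h h'
  obtain ⟨z, hz, hz0⟩ := h.exists_ne_zero
  refine ⟨?_, fun he => ?_⟩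
  · haveI : IsNoetherian R Λ := isNoetherian_of_fg_of_noetherian Λ h.1
    have h1 : ((Λ ⊓ Λ').comap Λ.subtype).FG := IsNoetherian.noetherian _
    have h2 := h1.map Λ.subtype
    rwa [Submodule.map_comap_subtype, ← inf_assoc, inf_idem] at h2
  · have : a • z ∈ Λ ⊓ Λ' := ⟨Λ.smul_mem _ hz, haz z hz⟩
    rw [he, Submodule.mem_bot, Algebra.smul_def, mul_eq_zero] at this
    tauto

theorem length_quot_ne_top {A B : Submodule R κ} (hA : IsLat A) (hB : IsLat B) :
    Module.length R (B ⧸ A.comap B.subtype) ≠ ⊤ := by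
  classical
  obtain ⟨a, ha, haz⟩ := exists_smul_le hc hB hA
  let I := RingHom.ker (algebraMap R κ) ⊔ Ideal.span {a}
  let Q := B ⧸ A.comap B.subtype
  haveI : Module.Finite R B := Module.Finite.iff_fg.2 hB.1
  obtain ⟨n, g, hg⟩ := Module.Finite.exists_fin (R := R) (M := Q)
  have hI : ∀ q : Q, I ≤ LinearMap.ker (LinearMap.toSpanSingleton R Q q) := fun q => by
    obtain ⟨v, rfl⟩ := Submodule.mkQ_surjective _ q
    refine sup_le (fun r hr => ?_) ((Ideal.span_singleton_le_iff_mem _).2 ?_)
    · rw [LinearMap.mem_ker, LinearMap.toSpanSingleton_apply, ← map_smul,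
        show r • v = 0 from Subtype.ext (by
          show r • (v : κ) = 0
          rw [Algebra.smul_def, RingHom.mem_ker.1 hr, zero_mul]), map_zero]
    · rw [LinearMap.mem_ker, LinearMap.toSpanSingleton_apply, ← map_smul]
      exact (Submodule.Quotient.mk_eq_zero _).2 (haz v.1 v.2)
  let f : (Fin n → R ⧸ I) →ₗ[R] Q :=
    ∑ j, (Submodule.liftQ I (LinearMap.toSpanSingleton R Q (g j)) (hI _)).comp (LinearMap.proj j)
  have hf : Function.Surjective f := by
    rw [← LinearMap.range_eq_top, eq_top_iff, ← hg, Submodule.span_le]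
    rintro _ ⟨j, rfl⟩
    refine ⟨Pi.single j 1, ?_⟩
    simp only [f, LinearMap.sum_apply, LinearMap.comp_apply, LinearMap.proj_apply]
    rw [Finset.sum_eq_single j (fun i _ hij => by rw [Pi.single_eq_of_ne hij, map_zero])
      (fun h => absurd (Finset.mem_univ j) h), Pi.single_eq_same]
    exact one_smul R (g j)
  refine ne_top_of_le_ne_top ?_ (Module.length_le_of_surjective f hf)
  rw [Module.length_pi_of_fintype]
  exact ne_of_lt (WithTop.sum_lt_top.2 fun j _ => lt_top_iff_ne_top.2
    (Module.length_ne_top_iff.2 (hc.artin a ha)))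

omit hc in
/-- the length of `B ⧸ A` -/
noncomputable def rlen (A B : Submodule R κ) : ℤ := ((Module.length R (B ⧸ A.comap B.subtype)).toNat : ℤ)

omit hc in
theorem rlen_nonneg (A B : Submodule R κ) : 0 ≤ rlen A B := Int.natCast_nonneg _

theorem rlen_add {A B C : Submodule R κ} (hA : IsLat A) (hB : IsLat B) (hC : IsLat C) (hAB : A ≤ B)
    (hBC : B ≤ C) : rlen A C = rlen A B + rlen B C := by
  let f : (B ⧸ A.comap B.subtype) →ₗ[R] (C ⧸ A.comap C.subtype) :=
    Submodule.mapQ _ _ (Submodule.inclusion hBC) (fun v hv => hv)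
  let g : (C ⧸ A.comap C.subtype) →ₗ[R] (C ⧸ B.comap C.subtype) :=
    Submodule.factor (fun v hv => hAB hv)
  have hf : Function.Injective f := by
    rw [← LinearMap.ker_eq_bot, Submodule.eq_bot_iff]
    intro x hx
    obtain ⟨v, rfl⟩ := Submodule.mkQ_surjective _ x
    exact (Submodule.Quotient.mk_eq_zero _).2 ((Submodule.Quotient.mk_eq_zero _).1 (LinearMap.mem_ker.1 hx) :)
  have hg : Function.Surjective g := fun y => by
    obtain ⟨v, rfl⟩ := Submodule.mkQ_surjective _ y
    exact ⟨Submodule.Quotient.mk v, rfl⟩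
  have hex : Function.Exact f g := by
    intro x
    obtain ⟨v, rfl⟩ := Submodule.mkQ_surjective _ x
    constructor
    · intro h
      have hv : (v : κ) ∈ B := (Submodule.Quotient.mk_eq_zero (B.comap C.subtype)).1 h
      exact ⟨Submodule.Quotient.mk ⟨v.1, hv⟩, rfl⟩
    · rintro ⟨y, hy⟩
      obtain ⟨w, rfl⟩ := Submodule.mkQ_surjective _ y
      rw [← hy]
      exact (Submodule.Quotient.mk_eq_zero _).2 w.2
  have h := Module.length_eq_add_of_exact f g hf hg hex
  unfold rlen
  rw [h, ENat.toNat_add (length_quot_ne_top hc hA hB) (length_quot_ne_top hc hB hC)]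
  push_cast
  ring

omit hc in
theorem rlen_scale {u : κ} (hu : u ≠ 0) (A B : Submodule R κ) : rlen (scale u A) (scale u B) = rlen A B := by
  let e : B ≃ₗ[R] scale u B := Submodule.equivMapOfInjective _ (mul_right_injective₀ hu) B
  have h : (A.comap B.subtype).map e.toLinearMap = (scale u A).comap (scale u B).subtype := by
    ext ⟨z, hz⟩
    constructor
    · rintro ⟨v, hv, hvz⟩
      exact ⟨v.1, hv, congrArg Subtype.val hvz⟩
    · rintro ⟨w, hw, hwz⟩
      obtain ⟨v, hv, hvz⟩ := hz
      have : w = v := mul_right_injective₀ hu (hwz.trans hvz.symm)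
      subst this
      exact ⟨⟨w, hv⟩, hw, Subtype.ext hwz⟩
  unfold rlen
  rw [(Submodule.Quotient.equiv _ _ e h).length_eq]

omit hc in
/-- the index of a lattice relative to the image of `R` -/
noncomputable def index (Λ : Submodule R κ) : ℤ := rlen (Λ ⊓ base R κ) Λ - rlen (Λ ⊓ base R κ) (base R κ)

theorem index_sub {Λ Λ' : Submodule R κ} (h : IsLat Λ) (h' : IsLat Λ') (hle : Λ ≤ Λ') :
    index Λ' - index Λ = rlen Λ Λ' := by
  have hi := isLat_inf hc h isLat_base
  have hi' := isLat_inf hc h' isLat_base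
  have hle' : Λ ⊓ base R κ ≤ Λ' ⊓ base R κ := inf_le_inf_right _ hle
  have e1 := rlen_add hc hi h h' inf_le_left hle
  have e2 := rlen_add hc hi hi' h' hle' inf_le_left
  have e3 := rlen_add hc hi hi' isLat_base hle' inf_le_right
  unfold index
  linarith

omit hc in
theorem index_base : index (base R κ) = 0 := by
  unfold index
  rw [inf_idem, sub_self]

theorem index_mono {Λ Λ' : Submodule R κ} (h : IsLat Λ) (h' : IsLat Λ') (hle : Λ ≤ Λ') :
    index Λ ≤ index Λ' := by
  have := index_sub hc h h' hle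
  have := rlen_nonneg Λ Λ'
  linarith

theorem index_scale {u : κ} (hu : u ≠ 0) {Λ : Submodule R κ} (h : IsLat Λ) :
    index (scale u Λ) = index Λ + index (scale u (base R κ)) := by
  have hi := isLat_inf hc h isLat_base
  have e1 := index_sub hc (hi.scale hu) (h.scale hu) (Submodule.map_mono inf_le_left)
  have e2 := index_sub hc (hi.scale hu) (isLat_base.scale hu) (Submodule.map_mono inf_le_right)
  rw [rlen_scale hu] at e1 e2
  show index (scale u Λ) = rlen (Λ ⊓ base R κ) Λ - rlen (Λ ⊓ base R κ) (base R κ) + index (scale u (base R κ))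
  linarith

/-- uniformly, every lattice is within bounded colength of a cyclic sublattice -/
theorem exists_cyclic_bound [IsLocalRing R] (hN : Module.Finite R (integralClosure R κ)) :
    ∃ δ : ℤ, ∀ Λ : Submodule R κ, IsLat Λ →
      ∃ t ∈ Λ, t ≠ 0 ∧ index Λ ≤ index (scale t (base R κ)) + δ := by
  classical
  let N := integralClosure R κ
  have hNlat : IsLat (Subalgebra.toSubmodule N) :=
    ⟨(Subalgebra.toSubmodule N).fg_top.1 hN.fg_top,
      fun h => one_ne_zero (α := κ) ((Submodule.mem_bot R).1 (h ▸ N.one_mem))⟩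
  haveI : IsNoetherianRing N := isNoetherian_of_tower R inferInstance
  haveI : IsFractionRing N κ := by
    refine IsFractionRing.of_field N κ fun z => ?_
    obtain ⟨a, b, hb, hab⟩ := hc.frac z
    refine ⟨algebraMap R N a, algebraMap R N b, ?_⟩
    rw [← IsScalarTower.algebraMap_apply, ← IsScalarTower.algebraMap_apply, eq_div_iff hb, hab]
  haveI hdim : Ring.DimensionLEOne N := ⟨fun {q} hq hqp => by
    haveI := hqp
    obtain ⟨n, hn, hn0⟩ := Submodule.exists_mem_ne_zero_of_ne_bot hq
    haveI : Algebra.IsIntegral R N := Algebra.IsIntegral.of_finite R N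
    -- some element of `R` outside the kernel lies in `q`
    obtain ⟨a, haq, ha⟩ : ∃ a : R, algebraMap R N a ∈ q ∧ algebraMap R κ a ≠ 0 := by
      have hnint : IsIntegral R (n : κ) := n.2
      have hn' : (n : κ) ≠ 0 := fun h => hn0 (Subtype.ext h)
      obtain ⟨p, hp, hev⟩ := hnint
      obtain ⟨a, b, hb, hab⟩ := hc.frac ((n : κ)⁻¹)
      refine ⟨b, ?_, hb⟩
      have : algebraMap R N b = n * algebraMap R N a := Subtype.ext (by
        show algebraMap R κ b = (n : κ) * algebraMap R κ a
        rw [← hab, ← mul_assoc, mul_inv_cancel₀ hn', one_mul])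
      rw [this]
      exact q.mul_mem_right _ hn
    let p := q.comap (algebraMap R N)
    haveI : p.IsPrime := Ideal.IsPrime.comap _
    have hle : RingHom.ker (algebraMap R κ) ⊔ Ideal.span {a} ≤ p := sup_le
      (fun r hr => by
        show algebraMap R N r ∈ q
        rw [show algebraMap R N r = 0 from Subtype.ext (RingHom.mem_ker.1 hr)]
        exact q.zero_mem)
      ((Ideal.span_singleton_le_iff_mem _).2 haq)
    haveI : IsArtinianRing (R ⧸ (RingHom.ker (algebraMap R κ) ⊔ Ideal.span {a})) := by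
      have h := hc.artin a ha
      rw [← Module.length_ne_top_iff, Module.length_eq_of_surjective (R := R ⧸ (RingHom.ker (algebraMap R κ) ⊔ Ideal.span {a}))
        Ideal.Quotient.mk_surjective, Module.length_ne_top_iff, isFiniteLength_iff_isNoetherian_isArtinian] at h
      exact h.2
    haveI hpm : p.IsMaximal := by
      let φ := Ideal.Quotient.mk (RingHom.ker (algebraMap R κ) ⊔ Ideal.span {a})
      have hmap : (p.map φ).IsPrime := Ideal.map_isPrime_of_surjective Ideal.Quotient.mk_surjective
        (by rw [Ideal.mk_ker]; exact hle)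
      haveI := hmap
      have hmax : (p.map φ).IsMaximal := IsArtinianRing.isMaximal_of_isPrime _
      have h2 := Ideal.comap_isMaximal_of_surjective φ Ideal.Quotient.mk_surjective (K := p.map φ)
      rwa [Ideal.comap_map_of_surjective _ Ideal.Quotient.mk_surjective, ← RingHom.ker_eq_comap_bot, Ideal.mk_ker,
        sup_eq_left.2 hle] at h2
    exact Ideal.isMaximal_of_isIntegral_of_isMaximal_comap q hpm⟩
  haveI hIC : IsIntegrallyClosed N := (isIntegrallyClosed_iff κ).2 fun {x} hx => by
    haveI : Algebra.IsIntegral R N := Algebra.IsIntegral.of_finite R N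
    exact ⟨⟨x, isIntegral_trans x hx⟩, rfl⟩
  haveI : IsDedekindDomain N :=
    { toIsDedekindRing := (isDedekindRing_iff N κ).2
        ⟨inferInstance, hdim, fun {x} hx => (IsIntegrallyClosed.isIntegral_iff (K := κ)).1 hx⟩ }
  haveI : IsPrincipalIdealRing N := by
    refine IsPrincipalIdealRing.of_finite_maximals ?_
    refine (Algebra.QuasiFinite.finite_primesOver (R := R) (S := N) (IsLocalRing.maximalIdeal R)).subset ?_
    intro q hq
    haveI : q.IsMaximal := hq
    haveI : Algebra.IsIntegral R N := Algebra.IsIntegral.of_finite R N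
    refine ⟨hq.isPrime, ⟨?_⟩⟩
    exact (IsLocalRing.eq_maximalIdeal (Ideal.isMaximal_comap_of_isIntegral_of_isMaximal q)).symm
  -- a conductor
  obtain ⟨c, hc0, hcN⟩ := exists_smul_le hc hNlat isLat_base
  refine ⟨index (Subalgebra.toSubmodule N) - index (scale (algebraMap R κ c) (base R κ)), fun Λ hΛ => ?_⟩
  obtain ⟨a, ha, haΛ⟩ := exists_smul_le hc hΛ isLat_base
  let A := algebraMap R κ a
  let J : Ideal N := Ideal.span {n : N | ∃ z ∈ Λ, (n : κ) = A * z}
  obtain ⟨g, hg⟩ := IsPrincipalIdealRing.principal J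
  have hmemN : ∀ z ∈ Λ, A * z ∈ N := fun z hz => by
    obtain ⟨r, hr⟩ := haΛ z hz
    rw [Algebra.smul_def] at hr
    change A * z ∈ N
    rw [← show algebraMap R κ r = A * z from hr]
    exact N.algebraMap_mem r
  have hP : ∀ j ∈ J, ∀ n : N, algebraMap R κ c * (n : κ) * (j : κ) / A ∈ Λ := by
    intro j hj
    refine Submodule.span_induction ?_ ?_ ?_ ?_ hj
    · rintro j' ⟨z, hz, hjz⟩ n
      obtain ⟨r, hr⟩ := hcN n.1 n.2
      rw [Algebra.smul_def] at hr
      have : algebraMap R κ c * (n : κ) * (j' : κ) / A = r • z := by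
        rw [hjz, Algebra.smul_def, show algebraMap R κ r = algebraMap R κ c * (n : κ) from hr, mul_div_assoc,
          mul_div_cancel_left₀ z ha]
      rw [this]
      exact Λ.smul_mem _ hz
    · intro n
      simp
    · intro x y _ _ hx hy n
      rw [show ((x + y : N) : κ) = (x : κ) + y from rfl, mul_add, add_div]
      exact Λ.add_mem (hx n) (hy n)
    · intro m x _ hx n
      have h := hx (n * m)
      rw [show ((n * m : N) : κ) = (n : κ) * m from rfl] at h
      rw [smul_eq_mul, show ((m * x : N) : κ) = (m : κ) * x from rfl]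
      convert h using 1
      ring
  have hgJ : g ∈ J := hg ▸ Submodule.mem_span_singleton_self g
  let t₀ : κ := (g : κ) / A
  let t := algebraMap R κ c * t₀
  have ht : t ∈ Λ := by
    have h := hP g hgJ 1
    simpa [t, t₀, mul_div_assoc] using h
  have hsub : Λ ≤ scale t₀ (Subalgebra.toSubmodule N) := fun z hz => by
    have hj : (⟨A * z, hmemN z hz⟩ : N) ∈ J := Ideal.subset_span ⟨z, hz, rfl⟩
    rw [hg] at hj
    obtain ⟨m, hm⟩ := Submodule.mem_span_singleton.1 hj
    refine ⟨m.1, m.2, ?_⟩
    have h : (m : κ) * g = A * z := congrArg Subtype.val hm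
    show (g : κ) / A * (m : κ) = z
    rw [div_mul_eq_mul_div, div_eq_iff ha, mul_comm (g : κ), h, mul_comm]
  have ht₀ : t₀ ≠ 0 := fun h => hΛ.2 ((Submodule.eq_bot_iff _).2 fun z hz => by
    obtain ⟨w, -, rfl⟩ := hsub hz
    show t₀ * w = 0
    rw [h, zero_mul])
  have ht0 : t ≠ 0 := mul_ne_zero hc0 ht₀
  refine ⟨t, ht, ht0, ?_⟩
  have e1 := index_mono hc hΛ (hNlat.scale ht₀) hsub
  rw [index_scale hc ht₀ hNlat] at e1
  have e2 : scale t (base R κ) = scale t₀ (scale (algebraMap R κ c) (base R κ)) := by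
    rw [scale, scale, scale, ← Submodule.map_comp]
    congr 1
    ext
    simp [t]
    ring
  rw [e2, index_scale hc ht₀ (isLat_base.scale hc0)]
  linarith

end Groth.Agent.RefCh22
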