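import Groth.Agent.RefCh22.LatticeIndex

/-!
# The local defect of a Weil divisor along a prime on a normal surface point

For the divisorial modules `O(D) ⊆ K` of a normal local ring and a prime `P`, the lattice `Λ_P(D) ⊆ κ(P)` is
the leading term of `O(D)` along `P`; its index `idx P D` is additive in `D` up to a bounded error.
-/

set_option autoImplicit false
set_option linter.style.haveILetI false
set_option linter.unusedSectionVars false
universe u

namespace Groth.Agent.RefCh22

/-- the divisorial data at a normal surface point -/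
structure DivSys (R K : Type u) [CommRing R] [Field K] [Algebra R K] (ι : Type u) (κ : ι → Type u)
    [∀ i, Field (κ i)] [∀ i, Algebra R (κ i)] where
  ord : ι → K → ℤ
  unif : ι → K
  V : ι → Subalgebra R K
  res : ∀ i, V i →ₐ[R] κ i
  O : (ι →₀ ℤ) → Submodule R K
  ord_mul : ∀ i {a b : K}, a ≠ 0 → b ≠ 0 → ord i (a * b) = ord i a + ord i b
  unif_ne : ∀ i, unif i ≠ 0
  ord_unif : ∀ i, ord i (unif i) = 1
  mem_V : ∀ i {z : K}, z ∈ V i ↔ z = 0 ∨ 0 ≤ ord i z
  res_ne : ∀ i (z : V i), (z : K) ≠ 0 → ord i z = 0 → res i z ≠ 0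
  res_zero : ∀ i (z : V i), (z : K) ≠ 0 → 1 ≤ ord i z → res i z = 0
  mem_O : ∀ (D : ι →₀ ℤ) {z : K}, z ∈ O D ↔ z = 0 ∨ ∀ i, -D i ≤ ord i z
  fg_O : ∀ D, (O D).FG
  finite_ord : ∀ {z : K}, z ≠ 0 → {i | ord i z ≠ 0}.Finite
  ord_nonneg : ∀ i (a : R), algebraMap R K a ≠ 0 → 0 ≤ ord i (algebraMap R K a)
  sep : ∀ {i j : ι}, i ≠ j →
    ∃ a : R, algebraMap R K a ≠ 0 ∧ ord i (algebraMap R K a) = 0 ∧ 1 ≤ ord j (algebraMap R K a)
  pos : ∀ i, ∃ a : R, algebraMap R K a ≠ 0 ∧ 1 ≤ ord i (algebraMap R K a)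

namespace DivSys

variable {R K : Type u} [CommRing R] [IsNoetherianRing R] [Field K] [Algebra R K] {ι : Type u} {κ : ι → Type u}
  [∀ i, Field (κ i)] [∀ i, Algebra R (κ i)] (S : DivSys R K ι κ)

theorem ord_one (i : ι) : S.ord i 1 = 0 := by
  have := S.ord_mul i (one_ne_zero (α := K)) one_ne_zero
  rw [one_mul] at this
  omega

theorem ord_pow (i : ι) {a : K} (ha : a ≠ 0) : ∀ n : ℕ, S.ord i (a ^ n) = n * S.ord i a
  | 0 => by rw [pow_zero, S.ord_one, Nat.cast_zero, zero_mul]
  | n + 1 => by rw [pow_succ, S.ord_mul i (pow_ne_zero n ha) ha, ord_pow i ha n]; push_cast; ring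

theorem ord_inv (i : ι) {a : K} (ha : a ≠ 0) : S.ord i a⁻¹ = -S.ord i a := by
  have := S.ord_mul i ha (inv_ne_zero ha)
  rw [mul_inv_cancel₀ ha, S.ord_one] at this
  omega

theorem ord_zpow (i : ι) {a : K} (ha : a ≠ 0) : ∀ n : ℤ, S.ord i (a ^ n) = n * S.ord i a
  | (n : ℕ) => by rw [zpow_natCast, S.ord_pow i ha]
  | Int.negSucc n => by
    rw [zpow_negSucc, S.ord_inv i (pow_ne_zero _ ha), S.ord_pow i ha]
    push_cast [Int.negSucc_eq]
    ring

theorem mul_mem_V (i : ι) {D : ι →₀ ℤ} {z : K} (hz : z ∈ S.O D) : S.unif i ^ D i * z ∈ S.V i := by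
  rw [S.mem_V]
  by_cases h : z = 0
  · exact Or.inl (by rw [h, mul_zero])
  · right
    have := ((S.mem_O D).1 hz).resolve_left h i
    rw [S.ord_mul i (zpow_ne_zero _ (S.unif_ne i)) h, S.ord_zpow i (S.unif_ne i), S.ord_unif]
    omega

/-- the leading term along `i` -/
noncomputable def lead (i : ι) (D : ι →₀ ℤ) : S.O D →ₗ[R] κ i where
  toFun z := S.res i ⟨_, S.mul_mem_V i z.2⟩
  map_add' z w := by rw [← map_add]; exact congrArg _ (Subtype.ext (mul_add _ _ _))
  map_smul' r z := by
    rw [RingHom.id_apply, ← map_smul]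
    exact congrArg _ (Subtype.ext (mul_smul_comm _ _ _))

theorem lead_apply (i : ι) (D : ι →₀ ℤ) (z : S.O D) : S.lead i D z = S.res i ⟨_, S.mul_mem_V i z.2⟩ := rfl

/-- the lattice of leading terms -/
noncomputable def Lam (i : ι) (D : ι →₀ ℤ) : Submodule R (κ i) := LinearMap.range (S.lead i D)

theorem lead_eq_zero_iff (i : ι) (D : ι →₀ ℤ) {z : K} (hz : z ∈ S.O D) (hz0 : z ≠ 0) :
    S.lead i D ⟨z, hz⟩ = 0 ↔ 1 - D i ≤ S.ord i z := by
  have hne : S.unif i ^ D i * z ≠ 0 := mul_ne_zero (zpow_ne_zero _ (S.unif_ne i)) hz0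
  have ho : S.ord i (S.unif i ^ D i * z) = D i + S.ord i z := by
    rw [S.ord_mul i (zpow_ne_zero _ (S.unif_ne i)) hz0, S.ord_zpow i (S.unif_ne i), S.ord_unif, mul_one]
  have hge := ((S.mem_O D).1 hz).resolve_left hz0 i
  constructor
  · intro h
    by_contra hlt
    exact S.res_ne i ⟨_, S.mul_mem_V i hz⟩ hne (by show S.ord i (S.unif i ^ D i * z) = 0; omega) h
  · intro h
    exact S.res_zero i ⟨_, S.mul_mem_V i hz⟩ hne (by show 1 ≤ S.ord i (S.unif i ^ D i * z); omega)

theorem exists_exact (i : ι) (D : ι →₀ ℤ) : ∃ z ∈ S.O D, z ≠ 0 ∧ S.ord i z = -D i := by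
  classical
  let z₀ : K := S.unif i ^ (-D i)
  have hz₀ : z₀ ≠ 0 := zpow_ne_zero _ (S.unif_ne i)
  have ho : S.ord i z₀ = -D i := by rw [S.ord_zpow i (S.unif_ne i), S.ord_unif, mul_one]
  let B : Finset ι := ((S.finite_ord hz₀).toFinset ∪ D.support).erase i
  have key : ∀ T : Finset ι, i ∉ T → ∃ a : R, algebraMap R K a ≠ 0 ∧ S.ord i (algebraMap R K a) = 0 ∧
      ∀ j ∈ T, -D j - S.ord j z₀ ≤ S.ord j (algebraMap R K a) := by
    intro T hT
    induction T using Finset.induction with
    | empty => exact ⟨1, by rw [map_one]; exact one_ne_zero, by rw [map_one]; exact S.ord_one i, by simp⟩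
    | @insert j T hj ih =>
      obtain ⟨a, ha, hai, haT⟩ := ih fun h => hT (Finset.mem_insert_of_mem h)
      obtain ⟨b, hb, hbi, hbj⟩ := S.sep (fun h : i = j => hT (h ▸ Finset.mem_insert_self j T))
      let n := (-D j - S.ord j z₀).toNat
      have hne : algebraMap R K (a * b ^ n) = algebraMap R K a * algebraMap R K b ^ n := by rw [map_mul, map_pow]
      refine ⟨a * b ^ n, by rw [hne]; exact mul_ne_zero ha (pow_ne_zero n hb), by
        rw [hne, S.ord_mul i ha (pow_ne_zero n hb), S.ord_pow i hb, hai, hbi]; simp, fun l hl => ?_⟩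
      rw [hne, S.ord_mul l ha (pow_ne_zero n hb), S.ord_pow l hb]
      have h1 := S.ord_nonneg l a ha
      have h2 := S.ord_nonneg l b hb
      rcases Finset.mem_insert.1 hl with rfl | hl
      · have h3 : (n : ℤ) * 1 ≤ (n : ℤ) * S.ord l (algebraMap R K b) :=
          mul_le_mul_of_nonneg_left hbj (Int.natCast_nonneg n)
        have h4 : -D l - S.ord l z₀ ≤ (n : ℤ) := Int.self_le_toNat _
        omega
      · have h3 : 0 ≤ (n : ℤ) * S.ord l (algebraMap R K b) := mul_nonneg (Int.natCast_nonneg n) h2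
        have := haT l hl
        omega
  obtain ⟨a, ha, hai, haB⟩ := key B (Finset.notMem_erase i _)
  have hne : algebraMap R K a * z₀ ≠ 0 := mul_ne_zero ha hz₀
  refine ⟨algebraMap R K a * z₀, (S.mem_O D).2 (Or.inr fun j => ?_), hne, ?_⟩
  · rw [S.ord_mul j ha hz₀]
    have h1 := S.ord_nonneg j a ha
    by_cases hj : j ∈ B
    · have := haB j hj; omega
    · by_cases hji : j = i
      · subst hji; omega
      · have hj' : j ∉ (S.finite_ord hz₀).toFinset ∪ D.support := fun h => hj (Finset.mem_erase.2 ⟨hji, h⟩)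
        rw [Finset.mem_union, Set.Finite.mem_toFinset, Finsupp.mem_support_iff] at hj'
        push_neg at hj'
        obtain ⟨hj1, hj2⟩ := hj'
        have hj1' : S.ord j z₀ = 0 := by simpa using hj1
        omega
  · rw [S.ord_mul i ha hz₀, hai, ho, zero_add]

theorem isLat_Lam (i : ι) (D : ι →₀ ℤ) : IsLat (S.Lam i D) := by
  refine ⟨?_, fun h => ?_⟩
  · haveI : Module.Finite R (S.O D) := Module.Finite.iff_fg.2 (S.fg_O D)
    rw [Lam, LinearMap.range_eq_map]
    exact Module.Finite.fg_top.map _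
  · obtain ⟨z, hz, hz0, ho⟩ := S.exists_exact i D
    have h1 : S.lead i D ⟨z, hz⟩ ∈ S.Lam i D := ⟨_, rfl⟩
    rw [h, Submodule.mem_bot, S.lead_eq_zero_iff i D hz hz0] at h1
    omega

/-- the index of the leading terms -/
noncomputable def idx (i : ι) (D : ι →₀ ℤ) : ℤ := index (S.Lam i D)

variable (hC : ∀ i, CurveLike R (κ i))
include hC

omit hC in
theorem O_mono {D E : ι →₀ ℤ} (h : ∀ l, D l ≤ E l) : S.O D ≤ S.O E := fun z hz =>
  (S.mem_O E).2 (((S.mem_O D).1 hz).imp_right fun h' l => le_trans (neg_le_neg (h l)) (h' l))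

/-- both second differences are one length -/
theorem idx_diff [DecidableEq ι] (i j : ι) (hij : i ≠ j) (D : ι →₀ ℤ) :
    S.idx i (D + Finsupp.single i 1 + Finsupp.single j 1) - S.idx i (D + Finsupp.single i 1) =
      ((Module.length R (S.O (D + Finsupp.single i 1 + Finsupp.single j 1) ⧸
        ((S.O (D + Finsupp.single i 1)) ⊔ S.O (D + Finsupp.single j 1)).comap
          (S.O (D + Finsupp.single i 1 + Finsupp.single j 1)).subtype)).toNat : ℤ) := by
  set E := D + Finsupp.single i 1 + Finsupp.single j 1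
  set E₁ := D + Finsupp.single i 1
  set E₂ := D + Finsupp.single j 1
  have hv : ∀ l, E l = D l + (if i = l then 1 else 0) + (if j = l then 1 else 0) := fun l => by
    simp only [E, E₁, Finsupp.add_apply, Finsupp.single_apply]
  have hv1 : ∀ l, E₁ l = D l + (if i = l then 1 else 0) := fun l => by
    simp only [E₁, Finsupp.add_apply, Finsupp.single_apply]
  have hv2 : ∀ l, E₂ l = D l + (if j = l then 1 else 0) := fun l => by
    simp only [E₂, Finsupp.add_apply, Finsupp.single_apply]
  have hE1i : E₁ i = E i := by rw [hv, hv1, if_neg (Ne.symm hij), add_zero]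
  have hE2i : E₂ i + 1 = E i := by rw [hv, hv2, if_pos rfl, if_neg (Ne.symm hij), add_zero, add_zero]
  have hE2l : ∀ l, l ≠ i → E₂ l = E l := fun l hl => by rw [hv, hv2, if_neg (Ne.symm hl), add_zero]
  have h1 : ∀ l, E₁ l ≤ E l := fun l => by rw [hv, hv1]; split_ifs <;> omega
  have h2 : ∀ l, E₂ l ≤ E l := fun l => by rw [hv, hv2]; split_ifs <;> omega
  have hle : S.O E₁ ⊔ S.O E₂ ≤ S.O E := sup_le (S.O_mono h1) (S.O_mono h2)
  -- the leading term on the larger module
  have hlead : ∀ (z : K) (hz : z ∈ S.O E₁), S.lead i E ⟨z, S.O_mono h1 hz⟩ = S.lead i E₁ ⟨z, hz⟩ := fun z hz => by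
    rw [lead_apply, lead_apply]
    exact congrArg _ (Subtype.ext (by show S.unif i ^ E i * z = S.unif i ^ E₁ i * z; rw [hE1i]))
  have hker : ∀ (z : S.O E), S.lead i E z = 0 → (z : K) ∈ S.O E₂ := fun ⟨z, hz⟩ h => by
    by_cases hz0 : z = 0
    · exact (S.mem_O E₂).2 (Or.inl hz0)
    refine (S.mem_O E₂).2 (Or.inr fun l => ?_)
    by_cases hl : l = i
    · subst hl
      have h' : 1 - E l ≤ S.ord l z := (S.lead_eq_zero_iff l E hz hz0).1 h
      show -E₂ l ≤ S.ord l z
      omega
    · have h' : -E l ≤ S.ord l z := ((S.mem_O E).1 hz).resolve_left hz0 l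
      show -E₂ l ≤ S.ord l z
      rw [hE2l l hl]
      exact h'
  have hker' : ∀ (z : K) (hz : z ∈ S.O E₂), S.lead i E ⟨z, S.O_mono h2 hz⟩ = 0 := fun z hz => by
    by_cases hz0 : z = 0
    · subst hz0
      exact map_zero (S.lead i E)
    refine (S.lead_eq_zero_iff i E _ hz0).2 ?_
    have := ((S.mem_O E₂).1 hz).resolve_left hz0 i
    omega
  have hmap : ((S.O E₁ ⊔ S.O E₂).comap (S.O E).subtype).map (S.lead i E) = S.Lam i E₁ := by
    refine le_antisymm ?_ ?_
    · rintro _ ⟨⟨z, hz⟩, hz', rfl⟩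
      obtain ⟨a, ha, b, hb, hab⟩ := Submodule.mem_sup.1 hz'
      have : (⟨z, hz⟩ : S.O E) = ⟨a, S.O_mono h1 ha⟩ + ⟨b, S.O_mono h2 hb⟩ := Subtype.ext hab.symm
      rw [this, map_add, hker' b hb, add_zero, hlead a ha]
      exact ⟨_, rfl⟩
    · rintro _ ⟨⟨z, hz⟩, rfl⟩
      exact ⟨⟨z, S.O_mono h1 hz⟩, Submodule.mem_sup_left hz, hlead z hz⟩
  have hsub : S.Lam i E₁ ≤ S.Lam i E := by
    rw [← hmap]
    exact LinearMap.map_le_range
  rw [idx, idx, index_sub (hC i) (S.isLat_Lam i E₁) (S.isLat_Lam i E) hsub, rlen]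
  let T := (S.O E₁ ⊔ S.O E₂).comap (S.O E).subtype
  let L := S.Lam i E
  let q : S.O E →ₗ[R] L ⧸ (S.Lam i E₁).comap L.subtype :=
    ((S.Lam i E₁).comap L.subtype).mkQ.comp (S.lead i E).rangeRestrict
  have hq : Function.Surjective q := (Submodule.mkQ_surjective _).comp (S.lead i E).surjective_rangeRestrict
  have hqk : LinearMap.ker q = T := by
    ext z
    rw [LinearMap.mem_ker, LinearMap.comp_apply, Submodule.mkQ_apply, Submodule.Quotient.mk_eq_zero]
    show S.lead i E z ∈ S.Lam i E₁ ↔ _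
    rw [← hmap]
    constructor
    · rintro ⟨w, hw, hwz⟩
      have : (z : K) = (w : K) + ((z - w : S.O E) : K) := by simp
      show (z : K) ∈ S.O E₁ ⊔ S.O E₂
      rw [this]
      exact add_mem hw (Submodule.mem_sup_right (hker (z - w) (by rw [map_sub, hwz, sub_self])))
    · exact fun hz => ⟨z, hz, rfl⟩
  rw [← ((Submodule.quotEquivOfEq _ _ hqk.symm).trans (q.quotKerEquivOfSurjective hq)).length_eq]

/-- the symmetry of second differences -/
theorem idx_symm [DecidableEq ι] (i j : ι) (D : ι →₀ ℤ) :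
    S.idx i (D + Finsupp.single i 1 + Finsupp.single j 1) - S.idx i (D + Finsupp.single i 1) =
      S.idx j (D + Finsupp.single j 1 + Finsupp.single i 1) - S.idx j (D + Finsupp.single j 1) := by
  by_cases h : i = j
  · subst h; rfl
  rw [S.idx_diff hC i j h D, S.idx_diff hC j i (Ne.symm h) D, sup_comm, add_right_comm D (Finsupp.single j 1)]

/-- the divisor of a function -/
noncomputable def dvs {f : K} (hf : f ≠ 0) : ι →₀ ℤ := Finsupp.ofSupportFinite (fun i => S.ord i f) (S.finite_ord hf)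

/-- translation by a principal divisor shifts the index by a constant -/
theorem idx_translate (i : ι) {f : K} (hf : f ≠ 0) :
    ∃ c : ℤ, ∀ D : ι →₀ ℤ, S.idx i (D + S.dvs hf) = S.idx i D + c := by
  let v : K := S.unif i ^ S.ord i f / f
  have hv : v ≠ 0 := div_ne_zero (zpow_ne_zero _ (S.unif_ne i)) hf
  have hov : S.ord i v = 0 := by
    show S.ord i (S.unif i ^ S.ord i f / f) = 0
    rw [div_eq_mul_inv, S.ord_mul i (zpow_ne_zero _ (S.unif_ne i)) (inv_ne_zero hf), S.ord_inv i hf,
      S.ord_zpow i (S.unif_ne i), S.ord_unif]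
    ring
  have hvV : v ∈ S.V i := (S.mem_V i).2 (Or.inr hov.ge)
  let u : κ i := S.res i ⟨v, hvV⟩
  have hu : u ≠ 0 := S.res_ne i ⟨v, hvV⟩ hv hov
  refine ⟨index (scale u (base R (κ i))), fun D => ?_⟩
  have hD : ∀ l, (D + S.dvs hf) l = D l + S.ord l f := fun l => rfl
  have hmemO : ∀ z : K, z ∈ S.O (D + S.dvs hf) ↔ f * z ∈ S.O D := fun z => by
    rw [S.mem_O, S.mem_O]
    by_cases hz : z = 0
    · simp [hz]
    simp only [hz, false_or, mul_eq_zero, hf]
    refine forall_congr' fun l => ?_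
    rw [hD, S.ord_mul l hf hz]
    omega
  have key : ∀ (z : K) (h : z ∈ S.O (D + S.dvs hf)),
      S.lead i (D + S.dvs hf) ⟨z, h⟩ = u * S.lead i D ⟨f * z, (hmemO z).1 h⟩ := fun z h => by
    rw [lead_apply, lead_apply]
    show _ = S.res i ⟨v, hvV⟩ * _
    rw [← map_mul]
    refine congrArg _ (Subtype.ext ?_)
    show S.unif i ^ (D + S.dvs hf) i * z = S.unif i ^ S.ord i f / f * (S.unif i ^ D i * (f * z))
    rw [hD, zpow_add₀ (S.unif_ne i)]
    field_simp
  have hL : S.Lam i (D + S.dvs hf) = scale u (S.Lam i D) := by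
    refine le_antisymm ?_ ?_
    · rintro _ ⟨⟨z, hz⟩, rfl⟩
      exact ⟨_, ⟨_, rfl⟩, (key z hz).symm⟩
    · rintro _ ⟨_, ⟨⟨w, hw⟩, rfl⟩, rfl⟩
      have hz : f⁻¹ * w ∈ S.O (D + S.dvs hf) := (hmemO _).2 (by rwa [mul_inv_cancel_left₀ hf])
      refine ⟨⟨_, hz⟩, (key _ hz).trans ?_⟩
      show u * _ = u * S.lead i D ⟨w, hw⟩
      congr 2
      exact Subtype.ext (mul_inv_cancel_left₀ hf w)
  rw [idx, hL, index_scale (hC i) hu (S.isLat_Lam i D)]
  rfl

omit hC in
/-- the potential along a path -/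
noncomputable def psi : List ι → (ι →₀ ℤ) → ℤ
  | [], _ => 0
  | i :: l, D => S.idx i (D + Finsupp.single i 1) + psi l (D + Finsupp.single i 1)

omit hC in
/-- the sum of a list of primes -/
noncomputable def tot (l : List ι) : ι →₀ ℤ := (l.map fun i => Finsupp.single i (1 : ℤ)).sum

theorem psi_step [DecidableEq ι] (j : ι) : ∀ (l : List ι) (D : ι →₀ ℤ),
    S.psi l (D + Finsupp.single j 1) - S.psi l D =
      S.idx j (D + Finsupp.single j 1 + tot l) - S.idx j (D + Finsupp.single j 1)
  | [], D => by simp [psi, tot]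
  | i :: l, D => by
    have h1 := psi_step j l (D + Finsupp.single i 1)
    have h2 := S.idx_symm hC i j D
    have e : tot (i :: l) = Finsupp.single i 1 + tot l := by simp [tot]
    simp only [psi]
    rw [e, ← add_assoc, add_right_comm D (Finsupp.single j 1) (Finsupp.single i 1)]
    rw [add_right_comm D (Finsupp.single j 1) (Finsupp.single i 1)] at h2
    omega

theorem superadd [IsLocalRing R] (hN : ∀ i, Module.Finite R (integralClosure R (κ i))) (i : ι) :
    ∃ δ : ℤ, ∀ D E : ι →₀ ℤ, S.idx i D + S.idx i E - δ ≤ S.idx i (D + E) := by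
  obtain ⟨δ, hδ⟩ := exists_cyclic_bound (hC i) (hN i)
  refine ⟨δ, fun D E => ?_⟩
  obtain ⟨t, ht, ht0, hb⟩ := hδ (S.Lam i D) (S.isLat_Lam i D)
  obtain ⟨⟨a, ha⟩, rfl⟩ := ht
  have hle : scale (S.lead i D ⟨a, ha⟩) (S.Lam i E) ≤ S.Lam i (D + E) := by
    rintro _ ⟨_, ⟨⟨b, hb'⟩, rfl⟩, rfl⟩
    have hab : a * b ∈ S.O (D + E) := by
      rw [S.mem_O]
      by_cases h : a * b = 0
      · exact Or.inl h
      refine Or.inr fun l => ?_
      have := ((S.mem_O D).1 ha).resolve_left (left_ne_zero_of_mul h) l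
      have := ((S.mem_O E).1 hb').resolve_left (right_ne_zero_of_mul h) l
      rw [S.ord_mul l (left_ne_zero_of_mul h) (right_ne_zero_of_mul h), Finsupp.add_apply]
      omega
    refine ⟨⟨_, hab⟩, ?_⟩
    show _ = S.lead i D ⟨a, ha⟩ * S.lead i E ⟨b, hb'⟩
    rw [lead_apply, lead_apply, lead_apply, ← map_mul]
    refine congrArg _ (Subtype.ext ?_)
    show S.unif i ^ (D + E) i * (a * b) = S.unif i ^ D i * a * (S.unif i ^ E i * b)
    rw [Finsupp.add_apply, zpow_add₀ (S.unif_ne i)]
    ring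
  have h1 := index_mono (hC i) ((S.isLat_Lam i E).scale ht0) (S.isLat_Lam i (D + E)) hle
  rw [index_scale (hC i) ht0 (S.isLat_Lam i E)] at h1
  show index (S.Lam i D) + index (S.Lam i E) - δ ≤ index (S.Lam i (D + E))
  linarith

/-- **the index along a prime is additive up to a bounded error** -/
theorem exists_bound [IsLocalRing R] (hN : ∀ i, Module.Finite R (integralClosure R (κ i))) (P : ι) :
    ∃ C : ℤ, ∀ D E : ι →₀ ℤ, |S.idx P (D + E) - S.idx P D - S.idx P E| ≤ C := by
  classical
  choose δ hδ using S.superadd hC hN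
  have shift : ∀ (i : ι) (c : ι →₀ ℤ), ∃ C : ℤ, 0 ≤ C ∧ ∀ D, |S.idx i (D + c) - S.idx i D| ≤ C := fun i c => by
    refine ⟨|S.idx i c| + |S.idx i (-c)| + |δ i|, by positivity, fun D => ?_⟩
    have h1 := hδ i D c
    have h2 := hδ i (D + c) (-c)
    rw [add_neg_cancel_right] at h2
    have := le_abs_self (S.idx i c)
    have := neg_abs_le (S.idx i c)
    have := neg_abs_le (S.idx i (-c))
    have := le_abs_self (δ i)
    have := abs_nonneg (S.idx i c)
    have := abs_nonneg (S.idx i (-c))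
    rw [abs_le]
    omega
  -- a function vanishing on `P`
  obtain ⟨a, ha, haP⟩ := S.pos P
  let A := S.dvs ha
  have hA : ∀ i, 0 ≤ A i := fun i => S.ord_nonneg i a ha
  let m : Multiset ι := ∑ i ∈ A.support, Multiset.replicate (A i).toNat i
  obtain ⟨l, hl⟩ : ∃ l : List ι, (l : Multiset ι) = m := ⟨m.toList, Multiset.coe_toList m⟩
  have htot : tot l = A := by
    show (l.map fun i => Finsupp.single i (1 : ℤ)).sum = A
    rw [← Multiset.sum_coe, ← Multiset.map_coe, hl, ← Multiset.coe_mapAddMonoidHom, map_sum, Multiset.sum_sum]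
    refine Eq.trans (Finset.sum_congr rfl fun i _ => ?_) (Finsupp.sum_single A)
    rw [Multiset.coe_mapAddMonoidHom, Multiset.map_replicate, Multiset.sum_replicate, Finsupp.smul_single,
      nsmul_one, Int.toNat_of_nonneg (hA i)]
  have hPl : P ∈ l := by
    have h0 : 1 ≤ A P := haP
    rw [← Multiset.mem_coe, hl, Multiset.mem_sum]
    exact ⟨P, Finsupp.mem_support_iff.2 (by omega), Multiset.mem_replicate.2 ⟨by omega, rfl⟩⟩
  choose c hc using fun j => S.idx_translate hC j ha
  -- the potential is affine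
  let G : (ι →₀ ℤ) → ℤ := fun D => S.psi l D - S.psi l 0
  have hG1 : ∀ j D, G (D + Finsupp.single j 1) = G D + c j := fun j D => by
    have := S.psi_step hC j l D
    rw [htot, show S.idx j (D + Finsupp.single j 1 + A) = _ from hc j _] at this
    show S.psi l _ - S.psi l 0 = S.psi l D - S.psi l 0 + c j
    omega
  have hGn : ∀ j (n : ℤ) D, G (D + Finsupp.single j n) = G D + n * c j := fun j n => by
    induction n using Int.induction_on with
    | zero => intro D; rw [Finsupp.single_zero, add_zero, zero_mul, add_zero]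
    | succ n ih =>
      intro D
      rw [Finsupp.single_add, ← add_assoc, hG1, ih]
      ring
    | pred n ih =>
      intro D
      have h := hG1 j (D + Finsupp.single j (-(n : ℤ) - 1))
      rw [add_assoc, ← Finsupp.single_add, sub_add_cancel, ih] at h
      linarith
  have hGadd : ∀ E D, G (D + E) = G D + G E := fun E => by
    induction E using Finsupp.induction with
    | zero => intro D; simp [G]
    | @single_add j n f _ _ ih =>
      intro D
      have h0 : G 0 = 0 := sub_self _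
      have h1 := hGn j n 0
      rw [zero_add, h0, zero_add] at h1
      rw [← add_assoc, ih, hGn, ih (Finsupp.single j n), h1]
      ring
  -- the potential against the sum of the indices
  have hsum : ∀ l' : List ι, ∃ C : ℤ, ∀ D, |S.psi l' D - (l'.map fun i => S.idx i D).sum| ≤ C := by
    intro l'
    induction l' with
    | nil => exact ⟨0, fun D => by simp [psi]⟩
    | cons i l' ih =>
      obtain ⟨C, hC'⟩ := ih
      obtain ⟨C₁, -, hC₁⟩ := shift i (Finsupp.single i 1)
      have hsh : ∀ l'' : List ι, ∃ C₂ : ℤ, ∀ D, |(l''.map fun j => S.idx j (D + Finsupp.single i 1)).sum -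
          (l''.map fun j => S.idx j D).sum| ≤ C₂ := by
        intro l''
        induction l'' with
        | nil => exact ⟨0, fun D => by simp⟩
        | cons j l'' ih' =>
          obtain ⟨C₂, hC₂⟩ := ih'
          obtain ⟨C₃, -, hC₃⟩ := shift j (Finsupp.single i 1)
          refine ⟨C₂ + C₃, fun D => ?_⟩
          have := abs_le.1 (hC₂ D)
          have := abs_le.1 (hC₃ D)
          simp only [List.map_cons, List.sum_cons, abs_le]
          omega
      obtain ⟨C₂, hC₂⟩ := hsh l'
      refine ⟨C + C₁ + C₂, fun D => ?_⟩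
      have := abs_le.1 (hC' (D + Finsupp.single i 1))
      have := abs_le.1 (hC₁ D)
      have := abs_le.1 (hC₂ D)
      simp only [psi, List.map_cons, List.sum_cons, abs_le]
      omega
  obtain ⟨C, hC'⟩ := hsum l
  -- each defect is bounded below, hence above
  have hb : ∀ l' : List ι, P ∈ l' → ∀ D E, (S.idx P (D + E) - S.idx P D - S.idx P E) +
      ((l'.map fun i => -|δ i|).sum + |δ P|) ≤
      (l'.map fun i => S.idx i (D + E)).sum - (l'.map fun i => S.idx i D).sum - (l'.map fun i => S.idx i E).sum := by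
    intro l' hP D E
    have hlow : ∀ l'' : List ι, (l''.map fun i => -|δ i|).sum ≤
        (l''.map fun i => S.idx i (D + E)).sum - (l''.map fun i => S.idx i D).sum - (l''.map fun i => S.idx i E).sum := by
      intro l''
      induction l'' with
      | nil => simp
      | cons i l'' ih =>
        have := hδ i D E
        have := le_abs_self (δ i)
        simp only [List.map_cons, List.sum_cons]
        omega
    induction l' with
    | nil => simp at hP
    | cons i l' ih =>
      simp only [List.map_cons, List.sum_cons]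
      rcases List.mem_cons.1 hP with rfl | hP'
      · have := hlow l'
        omega
      · have := ih hP'
        have := hδ i D E
        have := le_abs_self (δ i)
        omega
  let W := (l.map fun i => -|δ i|).sum + |δ P|
  refine ⟨3 * C + |S.psi l 0| + |W| + |δ P|, fun D E => ?_⟩
  have h1 := hb l hPl D E
  have h2 := hGadd E D
  have := abs_le.1 (hC' (D + E))
  have := abs_le.1 (hC' D)
  have := abs_le.1 (hC' E)
  have := hδ P D E
  have := le_abs_self (δ P)
  have := neg_abs_le W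
  have := le_abs_self (S.psi l 0)
  have := neg_abs_le (S.psi l 0)
  have := abs_nonneg (δ P)
  have := abs_nonneg W
  simp only [G] at h2
  rw [abs_le]
  omega

end DivSys

end Groth.Agent.RefCh22
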