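import Groth.Agent.RefCh22.DivStalk
import Groth.Agent.RefCh22.LocalPairing
import Groth.Agent.EGA43.DeltaBaseChange.Scheme
import Groth.Agent.Misc15.DivDescentInd
import Groth.Agent.CAlgH.Nagata

/-!
# The divisorial data at a point of dimension two less
-/

set_option autoImplicit false
set_option linter.style.haveILetI false
set_option linter.unusedSectionVars false
set_option backward.isDefEq.respectTransparency.types false
universe u

open CategoryTheory CategoryTheory.Limits AlgebraicGeometry TopologicalSpace IsLocalRing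
open Groth.Agent.Coherent Groth.Agent.RefHullLib Groth.Agent.Misc15.DivDescent

namespace Groth.Agent.RefCh22

variable {X : Scheme.{u}} [IsIntegral X] [IsLocallyNoetherian X]

/-- the codimension one points through `x` -/
abbrev Idx (x : X) : Type u := {y : X // Order.coheight y = 1 ∧ y ⤳ x}

/-- the residue field at such a point -/
abbrev Kap {x : X} (i : Idx x) : Type u := X.residueField i.1

noncomputable instance kapAlgebra (x : X) (i : Idx x) : Algebra (X.presheaf.stalk x) (Kap i) :=
  ((X.residue i.1).hom.comp (X.presheaf.stalkSpecializes i.2.2).hom).toAlgebra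

theorem residue_eq_zero_iff (y : X) (a : X.presheaf.stalk y) :
    (X.residue y).hom a = 0 ↔ a ∈ maximalIdeal (X.presheaf.stalk y) :=
  IsLocalRing.residue_eq_zero_iff a

theorem height_primeOf {y x : X} (hy : y ⤳ x) (hy1 : Order.coheight y = 1) : (primeOf hy).height = 1 := by
  haveI := isPrime_primeOf hy
  letI := (X.presheaf.stalkSpecializes hy).hom.toAlgebra
  haveI := Misc15.isLocalization_stalkSpecializes hy
  have hS : (primeOf hy).primeCompl =
      (IsUnit.submonoid (X.presheaf.stalk y)).comap (X.presheaf.stalkSpecializes hy).hom := by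
    ext a
    exact notMem_primeOf hy a
  haveI : IsLocalization.AtPrime (X.presheaf.stalk y) (primeOf hy) := by
    show IsLocalization (primeOf hy).primeCompl _
    rw [hS]; infer_instance
  have h := IsLocalization.AtPrime.ringKrullDim_eq_height (primeOf hy) (X.presheaf.stalk y)
  rw [(ringKrullDim_eq_one_iff_coheight y).2 hy1] at h
  exact_mod_cast h.symm

theorem ker_kap (x : X) (i : Idx x) :
    RingHom.ker (algebraMap (X.presheaf.stalk x) (Kap i)) = primeOf i.2.2 := by
  ext r
  exact residue_eq_zero_iff i.1 _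

/-- the image of the stalk at `i` in the function field -/
noncomputable def stalkSub (x : X) (i : Idx x) : Subalgebra (X.presheaf.stalk x) X.functionField :=
  { (algebraMap (X.presheaf.stalk i.1) X.functionField).range.toSubsemiring with
    algebraMap_mem' := fun r => ⟨(X.presheaf.stalkSpecializes i.2.2).hom r,
      CAlgH3.InvertibleDivisor.algebraMap_stalkSpecializes i.2.2 r⟩ }

theorem mem_stalkSub {x : X} {i : Idx x} {z : X.functionField} :
    z ∈ stalkSub x i ↔ ∃ a, algebraMap (X.presheaf.stalk i.1) X.functionField a = z := Iff.rfl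

/-- the stalk at `i` as that subalgebra -/
noncomputable def stalkEquivSub (x : X) (i : Idx x) : X.presheaf.stalk i.1 ≃+* stalkSub x i :=
  RingEquiv.ofBijective
    ({ toFun := fun a => ⟨algebraMap (X.presheaf.stalk i.1) X.functionField a, a, rfl⟩
       map_one' := Subtype.ext (map_one _)
       map_mul' := fun a b => Subtype.ext (map_mul _ a b)
       map_zero' := Subtype.ext (map_zero _)
       map_add' := fun a b => Subtype.ext (map_add _ a b) } : X.presheaf.stalk i.1 →+* stalkSub x i)
    ⟨fun a b h => IsFractionRing.injective _ X.functionField (congrArg Subtype.val h),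
      fun z => let ⟨a, ha⟩ := z.2; ⟨a, Subtype.ext ha⟩⟩

theorem stalkEquivSub_symm (x : X) (i : Idx x) (a : X.presheaf.stalk i.1) (z : stalkSub x i)
    (h : algebraMap (X.presheaf.stalk i.1) X.functionField a = z) : (stalkEquivSub x i).symm z = a :=
  (stalkEquivSub x i).symm_apply_eq.2 (Subtype.ext h.symm)

/-- the residue map -/
noncomputable def resKap (x : X) (i : Idx x) : stalkSub x i →ₐ[X.presheaf.stalk x] Kap i :=
  { (X.residue i.1).hom.comp (stalkEquivSub x i).symm.toRingHom with
    commutes' := fun r => by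
      show (X.residue i.1).hom ((stalkEquivSub x i).symm _) = _
      rw [stalkEquivSub_symm x i ((X.presheaf.stalkSpecializes i.2.2).hom r) _
        (CAlgH3.InvertibleDivisor.algebraMap_stalkSpecializes i.2.2 r)]
      rfl }

/-- extension of a divisor at `x` by zero -/
noncomputable def extDiv (x : X) (D : Idx x →₀ ℤ) : X →₀ ℤ :=
  D.embDomain ⟨Subtype.val, Subtype.val_injective⟩

theorem extDiv_apply (x : X) (D : Idx x →₀ ℤ) (i : Idx x) : extDiv x D i.1 = D i :=
  Finsupp.embDomain_apply_self _ _ _

theorem finite_ord_ne_zero (hX : Pi1.IsNormalScheme X) {V : X.Opens} (hV : IsAffineOpen V) {z : X.functionField}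
    (hz : z ≠ 0) : {y : X | y ∈ V ∧ Order.coheight y = 1 ∧ Scheme.ord z y ≠ 0}.Finite := by
  refine ((finite_bad (toCyc (0 : X →₀ ℤ)) z hV).union (finite_bad (toCyc (0 : X →₀ ℤ)) z⁻¹ hV)).subset ?_
  rintro y ⟨hy, hy1, hne⟩
  rcases lt_or_gt_of_ne hne with h | h
  · refine Or.inl ⟨hy, hy1, fun hl => ?_⟩
    rcases (mem_lat hX hy1).1 hl with h' | h'
    · exact hz h'
    · change -(0 : ℤ) ≤ _ at h'; omega
  · refine Or.inr ⟨hy, hy1, fun hl => ?_⟩
    rcases (mem_lat hX hy1).1 hl with h' | h'
    · exact inv_ne_zero hz h'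
    · have h2 := Scheme.ord_mul (x := y) hz (inv_ne_zero hz)
      rw [mul_inv_cancel₀ hz, (Scheme.ord_eq_iff hy1 one_ne_zero).2 (map_one _)] at h2
      change -(0 : ℤ) ≤ _ at h'
      omega

/-- the divisorial data at `x` -/
noncomputable def pointSys (hX : Pi1.IsNormalScheme X) (x : X) :
    DivSys (X.presheaf.stalk x) X.functionField (Idx x) (fun i => Kap i) where
  ord i z := Scheme.ord z i.1
  unif i := unif i.1
  V i := stalkSub x i
  res i := resKap x i
  O D := LinearMap.range (stValₗ x (extDiv x D))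
  ord_mul i a b ha hb := Scheme.ord_mul ha hb
  unif_ne i := unif_ne_zero i.1
  ord_unif i := ord_unif hX i.2.1
  mem_V i z := by
    have h := mem_lat hX i.2.1 (n := 0) (z := z)
    rw [mem_lat_iff] at h
    simp only [neg_zero, zpow_zero, mul_one] at h
    exact mem_stalkSub.trans h
  res_ne i z hz ho h := by
    obtain ⟨a, ha⟩ := mem_stalkSub.1 z.2
    change (X.residue i.1).hom ((stalkEquivSub x i).symm z) = 0 at h
    rw [stalkEquivSub_symm x i a z ha, residue_eq_zero_iff] at h
    have ha0 : a ≠ 0 := fun h0 => hz (by rw [← ha, h0, map_zero])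
    have h1 := (CAlgH3.InvertibleDivisor.ord_nonneg hX i.2.1 a ha0).2 h
    rw [ha] at h1
    omega
  res_zero i z hz ho := by
    obtain ⟨a, ha⟩ := mem_stalkSub.1 z.2
    obtain ⟨b, hb, hb'⟩ := CAlgH3.InvertibleDivisor.exists_of_ord_nonneg hX i.2.1 hz (by omega)
    show (X.residue i.1).hom ((stalkEquivSub x i).symm z) = 0
    rw [stalkEquivSub_symm x i b z hb, residue_eq_zero_iff]
    exact hb' ho
  mem_O D z := by
    show z ∈ Set.range (stVal x (extDiv x D)) ↔ _
    rw [mem_range_stVal]
    constructor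
    · intro h
      by_cases hz : z = 0
      · exact Or.inl hz
      refine Or.inr fun i => ?_
      have := ((mem_lat hX i.2.1).1 (h i.1 i.2.2 i.2.1)).resolve_left hz
      rwa [extDiv_apply x D i] at this
    · rintro h y hy hy1
      rw [mem_lat hX hy1, show extDiv x D y = D ⟨y, hy1, hy⟩ from extDiv_apply x D ⟨y, hy1, hy⟩]
      exact h.imp_right fun h' => h' ⟨y, hy1, hy⟩
  fg_O D := by
    haveI := AssSch12.finite_stalk (isCoh_dm hX (extDiv x D)) x
    rw [LinearMap.range_eq_map]
    exact Module.Finite.fg_top.map _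
  finite_ord {z} hz := by
    obtain ⟨_, ⟨V, hV, rfl⟩, hxV, -⟩ :=
      X.isBasis_affineOpens.exists_subset_of_mem_open (Set.mem_univ x) isOpen_univ
    refine Set.Finite.of_finite_image ?_ Subtype.val_injective.injOn
    refine (finite_ord_ne_zero hX hV hz).subset ?_
    rintro _ ⟨i, hi, rfl⟩
    exact ⟨i.2.2.mem_open V.isOpen hxV, i.2.1, hi⟩
  ord_nonneg i a ha := by
    rw [← CAlgH3.InvertibleDivisor.algebraMap_stalkSpecializes i.2.2 a]
    exact (CAlgH3.InvertibleDivisor.ord_nonneg hX i.2.1 _ fun h =>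
      ha (by rw [← CAlgH3.InvertibleDivisor.algebraMap_stalkSpecializes i.2.2 a, h, map_zero])).1
  sep {i j} hij := by
    haveI := isPrime_primeOf i.2.2
    haveI := isPrime_primeOf j.2.2
    have hnle : ¬ primeOf j.2.2 ≤ primeOf i.2.2 := fun hle => by
      rcases hle.eq_or_lt with e | hlt
      · exact hij (Subtype.ext (eq_of_primeOf_eq i.2.2 j.2.2 e.symm))
      · have := Ideal.height_strict_mono_of_isPrime_of_isPrime hlt
        rw [height_primeOf i.2.2 i.2.1, height_primeOf j.2.2 j.2.1] at this
        exact lt_irrefl _ this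
    obtain ⟨a, haj, hai⟩ := SetLike.not_le_iff_exists.1 hnle
    have hu := (notMem_primeOf i.2.2 a).1 hai
    have ha0 : algebraMap (X.presheaf.stalk x) X.functionField a ≠ 0 :=
      (map_ne_zero_iff _ (IsFractionRing.injective _ _)).2 fun h => hai (h ▸ Ideal.zero_mem _)
    have hne : ∀ k : Idx x, (X.presheaf.stalkSpecializes k.2.2).hom a ≠ 0 := fun k h =>
      ha0 (by rw [← CAlgH3.InvertibleDivisor.algebraMap_stalkSpecializes k.2.2 a, h, map_zero])
    refine ⟨a, ha0, ?_, ?_⟩
    · obtain ⟨v, hv⟩ := hu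
      haveI : Ring.KrullDimLE 1 (X.presheaf.stalk i.1) := krullDimLE_of_coheight_le i.2.1.le
      rw [← CAlgH3.InvertibleDivisor.algebraMap_stalkSpecializes i.2.2 a, ← hv]
      refine (Scheme.ord_eq_iff i.2.1 ((map_ne_zero_iff _ (IsFractionRing.injective _ _)).2 v.ne_zero)).2 ?_
      exact Ring.ordFrac_of_isUnit (R := X.presheaf.stalk i.1) v.isUnit
    · rw [← CAlgH3.InvertibleDivisor.algebraMap_stalkSpecializes j.2.2 a]
      exact (CAlgH3.InvertibleDivisor.ord_nonneg hX j.2.1 _ (hne j)).2 haj
  pos i := by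
    have hne : primeOf i.2.2 ≠ ⊥ := fun h => by
      have := height_primeOf i.2.2 i.2.1
      rw [h, Ideal.height_bot] at this
      exact zero_ne_one this
    obtain ⟨a, ha, ha0⟩ := Submodule.exists_mem_ne_zero_of_ne_bot hne
    have ha' : algebraMap (X.presheaf.stalk x) X.functionField a ≠ 0 :=
      (map_ne_zero_iff _ (IsFractionRing.injective _ _)).2 ha0
    refine ⟨a, ha', ?_⟩
    rw [← CAlgH3.InvertibleDivisor.algebraMap_stalkSpecializes i.2.2 a]
    exact (CAlgH3.InvertibleDivisor.ord_nonneg hX i.2.1 _ fun h =>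
      ha' (by rw [← CAlgH3.InvertibleDivisor.algebraMap_stalkSpecializes i.2.2 a, h, map_zero])).2 ha

theorem curveLike (x : X) (hdim : ringKrullDim (X.presheaf.stalk x) ≤ 2) (i : Idx x) :
    CurveLike (X.presheaf.stalk x) (Kap i) := by
  refine ⟨fun c => ?_, fun a ha => ?_⟩
  · letI := (X.presheaf.stalkSpecializes i.2.2).hom.toAlgebra
    haveI := Misc15.isLocalization_stalkSpecializes i.2.2
    obtain ⟨b, rfl⟩ := IsLocalRing.residue_surjective (R := X.presheaf.stalk i.1) c
    obtain ⟨⟨r, s⟩, hrs⟩ := IsLocalization.surj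
      ((IsUnit.submonoid (X.presheaf.stalk i.1)).comap (X.presheaf.stalkSpecializes i.2.2).hom) b
    refine ⟨r, s.1, fun h => ?_, ?_⟩
    · exact (residue_eq_zero_iff i.1 _).1 h s.2
    · exact ((map_mul (X.residue i.1).hom _ _).symm.trans (congrArg (X.residue i.1).hom hrs))
  · rw [ker_kap]
    haveI := isPrime_primeOf i.2.2
    let I := primeOf i.2.2 ⊔ Ideal.span {a}
    have haP : a ∉ primeOf i.2.2 := fun h => ha ((ker_kap x i).ge h)
    have hmax : ∀ q : Ideal (X.presheaf.stalk x), q.IsPrime → I ≤ q → q.IsMaximal := fun q hq hIq => by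
      by_contra hnm
      haveI := hq
      have hlt1 : primeOf i.2.2 < q := lt_of_le_of_ne (le_sup_left.trans hIq) fun e =>
        haP (e.ge (hIq (Ideal.mem_sup_right (Ideal.mem_span_singleton_self a))))
      have hlt2 : q < maximalIdeal (X.presheaf.stalk x) := lt_of_le_of_ne (le_maximalIdeal hq.ne_top) fun e =>
        hnm (e ▸ maximalIdeal.isMaximal _)
      have h1 := Ideal.height_strict_mono_of_isPrime_of_isPrime hlt1
      have h2 := Ideal.height_strict_mono_of_isPrime_of_isPrime hlt2
      rw [height_primeOf i.2.2 i.2.1] at h1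
      have h3 : ((maximalIdeal (X.presheaf.stalk x)).height : WithBot ℕ∞) ≤ 2 :=
        maximalIdeal_height_eq_ringKrullDim.trans_le hdim
      have h3' : (maximalIdeal (X.presheaf.stalk x)).height ≤ 2 :=
        WithBot.coe_le_coe.1 (h3.trans_eq rfl)
      have h4 : (2 : ℕ∞) ≤ q.height := by
        have := Order.add_one_le_of_lt h1
        simpa [one_add_one_eq_two] using this
      exact absurd (h4.trans_lt h2) (not_lt.2 h3')
    haveI : Ring.KrullDimLE 0 (X.presheaf.stalk x ⧸ I) := Ring.krullDimLE_zero_iff.2 fun P hP => by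
      haveI := hP
      have h := hmax (P.comap (Ideal.Quotient.mk I)) (Ideal.IsPrime.comap _)
        (fun r hr => by rw [Ideal.mem_comap, Ideal.Quotient.eq_zero_iff_mem.2 hr]; exact P.zero_mem)
      rcases Ideal.map_eq_top_or_isMaximal_of_surjective (Ideal.Quotient.mk I) Ideal.Quotient.mk_surjective h
        with h2 | h2 <;> rw [Ideal.map_comap_of_surjective _ Ideal.Quotient.mk_surjective] at h2
      · exact absurd h2 hP.ne_top
      · exact h2
    haveI : IsArtinianRing (X.presheaf.stalk x ⧸ I) :=
      isArtinianRing_iff_isNoetherianRing_krullDimLE_zero.2 ⟨inferInstance, inferInstance⟩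
    rw [← Module.length_ne_top_iff, Module.length_eq_of_surjective (R := X.presheaf.stalk x ⧸ I) Ideal.Quotient.mk_surjective,
      Module.length_ne_top_iff, isFiniteLength_iff_isNoetherian_isArtinian]
    exact ⟨inferInstance, inferInstance⟩

theorem finite_integralClosure_kap (k : Type u) [Field k] [X.Over (Spec (CommRingCat.of k))]
    [LocallyOfFiniteType (X ↘ (Spec (CommRingCat.of k)))] (x : X) (i : Idx x) :
    Module.Finite (X.presheaf.stalk x) (integralClosure (X.presheaf.stalk x) (Kap i)) := by
  have hN := EGA43.DeltaBaseChange.isNagata_stalk k X x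
  haveI := isPrime_primeOf i.2.2
  let p := primeOf i.2.2
  letI : Algebra (X.presheaf.stalk x ⧸ p) (Kap i) :=
    (Ideal.Quotient.lift p (algebraMap (X.presheaf.stalk x) (Kap i)) fun r hr =>
      RingHom.mem_ker.1 ((ker_kap x i).ge hr)).toAlgebra
  haveI : IsScalarTower (X.presheaf.stalk x) (X.presheaf.stalk x ⧸ p) (Kap i) :=
    IsScalarTower.of_algebraMap_eq fun _ => rfl
  haveI : FaithfulSMul (X.presheaf.stalk x ⧸ p) (Kap i) := by
    rw [faithfulSMul_iff_algebraMap_injective, injective_iff_map_eq_zero]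
    intro r hr
    obtain ⟨r, rfl⟩ := Ideal.Quotient.mk_surjective r
    exact Ideal.Quotient.eq_zero_iff_mem.2 ((ker_kap x i).le (RingHom.mem_ker.2 hr))
  haveI : IsFractionRing (X.presheaf.stalk x ⧸ p) (Kap i) := IsFractionRing.of_field _ _ fun z => by
    letI := (X.presheaf.stalkSpecializes i.2.2).hom.toAlgebra
    haveI := Misc15.isLocalization_stalkSpecializes i.2.2
    obtain ⟨b, rfl⟩ := IsLocalRing.residue_surjective (R := X.presheaf.stalk i.1) z
    obtain ⟨⟨r, s⟩, hrs⟩ := IsLocalization.surj
      ((IsUnit.submonoid (X.presheaf.stalk i.1)).comap (X.presheaf.stalkSpecializes i.2.2).hom) b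
    refine ⟨Ideal.Quotient.mk p r, Ideal.Quotient.mk p s.1, ?_⟩
    have hs : algebraMap (X.presheaf.stalk x) (Kap i) s.1 ≠ 0 := fun h => (residue_eq_zero_iff i.1 _).1 h s.2
    show IsLocalRing.residue _ b = algebraMap (X.presheaf.stalk x) (Kap i) r / algebraMap (X.presheaf.stalk x) (Kap i) s.1
    refine (eq_div_iff hs).2 ?_
    exact (map_mul (X.residue i.1).hom _ _).symm.trans (congrArg (X.residue i.1).hom hrs)
  haveI : Module.Finite (X.presheaf.stalk x ⧸ p) (integralClosure (X.presheaf.stalk x ⧸ p) (Kap i)) :=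
    CAlgH.isN2_apply (hN.2 p) (Kap i) (Kap i)
  haveI : Module.Finite (X.presheaf.stalk x) (integralClosure (X.presheaf.stalk x ⧸ p) (Kap i)) :=
    Module.Finite.trans (X.presheaf.stalk x ⧸ p) _
  refine Module.Finite.of_surjective
    ({ toFun := fun z => ⟨z.1, isIntegral_trans (R := X.presheaf.stalk x) (A := X.presheaf.stalk x ⧸ p) z.1 z.2⟩
       map_add' := fun _ _ => rfl
       map_smul' := fun _ _ => rfl } : integralClosure (X.presheaf.stalk x ⧸ p) (Kap i) →ₗ[X.presheaf.stalk x]
        integralClosure (X.presheaf.stalk x) (Kap i))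
    fun z => ⟨⟨z.1, z.2.tower_top⟩, rfl⟩

/-- the local bound -/
theorem exists_local_bound (k : Type u) [Field k] [X.Over (Spec (CommRingCat.of k))]
    [LocallyOfFiniteType (X ↘ (Spec (CommRingCat.of k)))] (hX : Pi1.IsNormalScheme X) (x : X)
    (hdim : ringKrullDim (X.presheaf.stalk x) ≤ 2) (i : Idx x) :
    ∃ C : ℤ, ∀ D E, |(pointSys hX x).idx i (D + E) - (pointSys hX x).idx i D - (pointSys hX x).idx i E| ≤ C :=
  (pointSys hX x).exists_bound (curveLike x hdim) (finite_integralClosure_kap k x) i

end Groth.Agent.RefCh22
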